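/-
The field of p^a elements generated by a q-th root of unity, a the order of p modulo q.
-/
import Mathlib

set_option autoImplicit false

namespace Cfsg.Lib.USchmidt

open Polynomial

variable {p q a : ℕ} [hp : Fact p.Prime] [hq : Fact q.Prime]

theorem cast_ne_zero (hpq : p ≠ q) : (p : ZMod q) ≠ 0 := by
  intro h
  rw [ZMod.natCast_eq_zero_iff] at h
  exact hpq ((Nat.prime_dvd_prime_iff_eq hq.out hp.out).1 h).symm

theorem order_ne_zero (hpq : p ≠ q) (ha : a = orderOf (p : ZMod q)) : a ≠ 0 := by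
  rw [ha]
  refine ((isOfFinOrder_iff_pow_eq_one).2 ⟨q - 1, ?_, ZMod.pow_card_sub_one_eq_one (cast_ne_zero hpq)⟩).orderOf_pos.ne'
  have := hq.out.two_le
  omega

theorem dvd_iff (ha : a = orderOf (p : ZMod q)) (d : ℕ) : q ∣ p ^ d - 1 ↔ a ∣ d := by
  rw [ha, orderOf_dvd_iff_pow_eq_one, ← ZMod.natCast_eq_zero_iff,
    Nat.cast_sub (Nat.one_le_pow _ _ hp.out.pos), Nat.cast_pow, Nat.cast_one, sub_eq_zero]

theorem exists_zeta (hpq : p ≠ q) (ha : a = orderOf (p : ZMod q)) :
    ∃ ζ : GaloisField p a, ζ ^ q = 1 ∧ ζ ≠ 1 := by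
  have ha0 := order_ne_zero hpq ha
  haveI : Fintype (GaloisField p a) := Fintype.ofFinite _
  have hd : q ∣ Nat.card (GaloisField p a)ˣ := by
    rw [Nat.card_units, GaloisField.card p a ha0]
    exact (dvd_iff ha a).2 dvd_rfl
  obtain ⟨u, hu⟩ := exists_prime_orderOf_dvd_card' q hd
  refine ⟨u, ?_, ?_⟩
  · rw [← Units.val_pow_eq_pow_val, ← hu, pow_orderOf_eq_one, Units.val_one]
  · intro h
    rw [Units.val_eq_one] at h
    rw [h, orderOf_one] at hu
    exact hq.out.one_lt.ne hu

variable {ζ : GaloisField p a}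

theorem zeta_ne_zero (h1 : ζ ^ q = 1) : ζ ≠ 0 := by
  rintro rfl
  rw [zero_pow hq.out.ne_zero] at h1
  exact zero_ne_one h1

theorem orderOf_zeta (h1 : ζ ^ q = 1) (h2 : ζ ≠ 1) : orderOf ζ = q := orderOf_eq_prime h1 h2

theorem zeta_gen (hpq : p ≠ q) (ha : a = orderOf (p : ZMod q)) (h1 : ζ ^ q = 1) (h2 : ζ ≠ 1)
    (x : GaloisField p a) : ∃ f : (ZMod p)[X], aeval ζ f = x := by
  have ha0 := order_ne_zero hpq ha
  set F := IntermediateField.adjoin (ZMod p) ({ζ} : Set (GaloisField p a)) with hF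
  haveI : Fintype F := Fintype.ofFinite F
  have hz : ζ ∈ F := IntermediateField.mem_adjoin_simple_self _ ζ
  set d := Module.finrank (ZMod p) F with hd
  have hc : Fintype.card F = p ^ d := by
    rw [← Nat.card_eq_fintype_card, hd, Module.natCard_eq_pow_finrank (K := ZMod p), Nat.card_zmod]
  have hpow : ζ ^ p ^ d = ζ := by
    have := congrArg Subtype.val (FiniteField.pow_card (⟨ζ, hz⟩ : F))
    rw [hc] at this
    simpa using this
  have hd1 : q ∣ p ^ d - 1 := by
    rw [← orderOf_zeta h1 h2, orderOf_dvd_iff_pow_eq_one]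
    refine mul_right_cancel₀ (zeta_ne_zero h1) ?_
    rw [← pow_succ, Nat.sub_add_cancel (Nat.one_le_pow _ _ hp.out.pos), hpow, one_mul]
  have hdle : a ≤ d := Nat.le_of_dvd Module.finrank_pos ((dvd_iff ha d).1 hd1)
  have htop : F = ⊤ := by
    refine IntermediateField.eq_of_le_of_finrank_le le_top ?_
    rw [IntermediateField.finrank_top', GaloisField.finrank p ha0]
    exact hdle
  have hmem : x ∈ F.toSubalgebra := by rw [htop]; exact IntermediateField.mem_top
  rw [hF, IntermediateField.adjoin_simple_toSubalgebra_of_isAlgebraic (Algebra.IsAlgebraic.isAlgebraic ζ),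
    Algebra.adjoin_singleton_eq_range_aeval] at hmem
  exact hmem

theorem invariant_top (hpq : p ≠ q) (ha : a = orderOf (p : ZMod q)) (h1 : ζ ^ q = 1) (h2 : ζ ≠ 1)
    (W : AddSubgroup (GaloisField p a)) (hW : ∀ w ∈ W, ζ * w ∈ W) (hne : ∃ w ∈ W, w ≠ 0) : W = ⊤ := by
  obtain ⟨w, hw, hw0⟩ := hne
  refine eq_top_iff.2 fun x _ => ?_
  obtain ⟨f, hf⟩ := zeta_gen hpq ha h1 h2 (x / w)
  have key : ∀ f : (ZMod p)[X], ∀ v ∈ W, aeval ζ f * v ∈ W := by
    intro f
    induction f using Polynomial.induction_on' with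
    | add f g hf hg => intro v hv; rw [map_add, add_mul]; exact add_mem (hf v hv) (hg v hv)
    | monomial n c =>
        intro v hv
        have hn : ∀ n : ℕ, ζ ^ n * v ∈ W := fun n => by
          induction n with
          | zero => simpa using hv
          | succ n ih => rw [pow_succ', mul_assoc]; exact hW _ ih
        rw [aeval_monomial, mul_assoc, ← ZMod.natCast_zmod_val c, map_natCast, ← nsmul_eq_mul]
        exact AddSubgroup.nsmul_mem W (hn n) _
  have := key f w hw
  rwa [hf, div_mul_cancel₀ _ hw0] at this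

theorem card_trace (hb : a = 2 * (a / 2)) (ha0 : a ≠ 0) :
    let τ := iterateFrobenius (GaloisField p a) p (a / 2)
    (∀ x, τ (τ x) = x) ∧
    Nat.card {x : GaloisField p a // x + τ x = 0} = p ^ (a / 2) ∧
    (∀ x, τ x = x → ∃ y, y + τ y = x) ∧
    (∀ x, x + τ x = 0 → ∃ y, y - τ y = x) ∧
    Nat.card (Set.range fun x : GaloisField p a => x + τ x) = p ^ (a / 2) := by
  classical
  intro τ
  haveI : Fintype (GaloisField p a) := Fintype.ofFinite _
  set K := GaloisField p a
  set b := a / 2 with hbdef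
  have hb1 : 1 ≤ b := by omega
  have hτ : ∀ x : K, τ x = x ^ p ^ b := fun x => iterateFrobenius_def p b x
  have hKc : Nat.card K = p ^ b * p ^ b := by
    rw [GaloisField.card p a ha0, ← pow_add]; congr 1; omega
  have hττ : ∀ x, τ (τ x) = x := fun x => by
    rw [hτ, hτ, ← pow_mul, ← hKc, Nat.card_eq_fintype_card, FiniteField.pow_card]
  have hlt : 1 < p ^ b := Nat.one_lt_pow (by omega) hp.out.one_lt
  -- both kernels have at most `p^b` elements
  let T : K →+ K := AddMonoidHom.mk' (fun x => x + τ x) fun x y => by rw [map_add]; abel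
  let U : K →+ K := AddMonoidHom.mk' (fun x => x - τ x) fun x y => by rw [map_add]; abel
  have hroots : ∀ P : K[X], P ≠ 0 → P.natDegree ≤ p ^ b → ∀ S : AddSubgroup K,
      (∀ x ∈ S, P.eval x = 0) → Nat.card S ≤ p ^ b := by
    intro P hP0 hdeg S hS
    rw [Nat.card_eq_fintype_card]
    calc Fintype.card S = ((S : Set K).toFinset).card := (Set.toFinset_card _).symm
      _ ≤ P.roots.toFinset.card := Finset.card_le_card fun x hx => by
          rw [Multiset.mem_toFinset, mem_roots hP0]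
          exact hS x (by simpa using hx)
      _ ≤ P.roots.card := Multiset.toFinset_card_le _
      _ ≤ P.natDegree := Polynomial.card_roots' P
      _ ≤ p ^ b := hdeg
  have hdeg : ∀ e : K, e ≠ 0 → (X ^ p ^ b + C e * X : K[X]).natDegree = p ^ b := fun e he => by
    rw [natDegree_add_eq_left_of_natDegree_lt] <;> simp [natDegree_C_mul_X e he, hlt]
  have hTker : Nat.card T.ker ≤ p ^ b := by
    refine hroots (X ^ p ^ b + C (1 : K) * X) (ne_zero_of_natDegree_gt (n := 0) (by rw [hdeg 1 one_ne_zero]; omega))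
      (hdeg 1 one_ne_zero).le _ fun x hx => ?_
    have : x + τ x = 0 := hx
    simp only [eval_add, eval_pow, eval_X, eval_mul, eval_C, one_mul]
    rw [← hτ, add_comm]; exact this
  have hUker : Nat.card U.ker ≤ p ^ b := by
    refine hroots (X ^ p ^ b + C (-1 : K) * X)
      (ne_zero_of_natDegree_gt (n := 0) (by rw [hdeg _ (neg_ne_zero.2 one_ne_zero)]; omega))
      (hdeg _ (neg_ne_zero.2 one_ne_zero)).le _ fun x hx => ?_
    have : x - τ x = 0 := hx
    simp only [eval_add, eval_pow, eval_X, eval_mul, eval_C]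
    rw [← hτ, ← sub_eq_zero.1 this]
    ring
  have hTle : T.range ≤ U.ker := by
    rintro _ ⟨x, rfl⟩
    show x + τ x - τ (x + τ x) = 0
    rw [map_add, hττ]; abel
  have hUle : U.range ≤ T.ker := by
    rintro _ ⟨x, rfl⟩
    show x - τ x + τ (x - τ x) = 0
    rw [map_sub, hττ]; abel
  have e1 : ∀ f : K →+ K, Nat.card f.ker * Nat.card f.range = p ^ b * p ^ b := fun f => by
    rw [← AddSubgroup.index_ker, f.ker.card_mul_index, hKc]
  have h1 := AddSubgroup.card_le_of_le hTle
  have h2 := AddSubgroup.card_le_of_le hUle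
  have hpb : 0 < p ^ b := by omega
  have hT1 : p ^ b ≤ Nat.card T.range := by
    by_contra hc
    push Not at hc
    have := e1 T
    nlinarith
  have hU1 : p ^ b ≤ Nat.card U.range := by
    by_contra hc
    push Not at hc
    have := e1 U
    nlinarith
  have hTeq : T.range = U.ker := AddSubgroup.eq_of_le_of_card_ge hTle (by omega)
  have hUeq : U.range = T.ker := AddSubgroup.eq_of_le_of_card_ge hUle (by omega)
  refine ⟨hττ, ?_, fun x hx => ?_, fun x hx => ?_, ?_⟩
  · exact le_antisymm hTker (hU1.trans h2)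
  · have : x ∈ T.range := hTeq ▸ (show x - τ x = 0 by rw [hx, sub_self])
    exact this
  · have : x ∈ U.range := hUeq ▸ (show x + τ x = 0 from hx)
    exact this
  · exact le_antisymm (h1.trans hUker) hT1

theorem tau_zeta (hpq : p ≠ q) (ha : a = orderOf (p : ZMod q)) (hb : a = 2 * (a / 2)) (h1 : ζ ^ q = 1) :
    iterateFrobenius (GaloisField p a) p (a / 2) ζ * ζ = 1 := by
  have ha0 := order_ne_zero hpq ha
  rw [iterateFrobenius_def, ← pow_succ]
  have hsq : (p : ZMod q) ^ (a / 2) * (p : ZMod q) ^ (a / 2) = 1 := by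
    rw [← pow_add, ← two_mul, ← hb, ha, pow_orderOf_eq_one]
  rcases mul_self_eq_one_iff.1 hsq with h | h
  · have h2 := orderOf_dvd_of_pow_eq_one h
    rw [← ha] at h2
    have := Nat.le_of_dvd (by omega) h2
    omega
  · have h3 : ((p ^ (a / 2) + 1 : ℕ) : ZMod q) = 0 := by push_cast; rw [h]; ring
    obtain ⟨c, hc⟩ := (ZMod.natCast_eq_zero_iff _ _).1 h3
    rw [hc, pow_mul, h1, one_pow]

theorem eq_one_of_inv_root (hpq : p ≠ q) (ha : a = orderOf (p : ZMod q)) (h1 : ζ ^ q = 1) (h2 : ζ ≠ 1)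
    (hodd : ¬ 2 ∣ a) (hroot : aeval ζ⁻¹ (minpoly (ZMod p) ζ) = 0) : a = 1 := by
  have ha0 := order_ne_zero hpq ha
  haveI : IsGalois (ZMod p) (GaloisField p a) := inferInstance
  obtain ⟨σ, hσ⟩ := minpoly.exists_algEquiv_of_root' (Algebra.IsAlgebraic.isAlgebraic ζ) hroot
  have hext : ∀ f g : GaloisField p a ≃ₐ[ZMod p] GaloisField p a, f ζ = g ζ → f = g := by
    intro f g h
    refine AlgEquiv.ext fun x => ?_
    obtain ⟨P, rfl⟩ := zeta_gen hpq ha h1 h2 x
    have e1 := Polynomial.aeval_algHom_apply f.toAlgHom ζ P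
    have e2 := Polynomial.aeval_algHom_apply g.toAlgHom ζ P
    simp only [AlgEquiv.toAlgHom_apply] at e1 e2
    rw [← e1, ← e2, h]
  have h2' : σ ^ 2 = 1 := hext _ _ (by rw [pow_two, AlgEquiv.mul_apply, hσ, map_inv₀, hσ, inv_inv]; rfl)
  have hord : orderOf σ ∣ a := by
    have := orderOf_dvd_natCard σ
    rwa [IsGalois.card_aut_eq_finrank, GaloisField.finrank p ha0] at this
  have hσ1 : σ = 1 := by
    rcases (Nat.dvd_prime Nat.prime_two).1 (orderOf_dvd_of_pow_eq_one h2') with h | h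
    · exact orderOf_eq_one_iff.1 h
    · exact absurd (h ▸ hord) hodd
  rw [hσ1, AlgEquiv.one_apply] at hσ
  have hz : ζ ^ 2 = 1 := by
    rw [pow_two]
    nth_rw 2 [hσ]
    exact mul_inv_cancel₀ (zeta_ne_zero h1)
  have hq2 : q = 2 := by
    have := orderOf_dvd_of_pow_eq_one hz
    rw [orderOf_zeta h1 h2] at this
    exact (Nat.prime_dvd_prime_iff_eq hq.out Nat.prime_two).1 this
  subst hq2
  have hp1 : (p : ZMod 2) = 1 := by
    have hpodd := hp.out.odd_of_ne_two hpq
    obtain ⟨k, rfl⟩ := hpodd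
    push_cast
    rw [show (2 : ZMod 2) = 0 from rfl, zero_mul, zero_add]
  rw [ha, hp1, orderOf_one]

end Cfsg.Lib.USchmidt
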