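/-
A `p`-group extended by a cyclic `q`-group acting irreducibly on a quotient field, centrally below.
-/
import Cfsg.Agent.SolvStruct.UniversalSchmidt.Field
import Cfsg.Agent.Transfer.Basic

set_option autoImplicit false

namespace Cfsg.Lib.USchmidt

open Subgroup Multiplicative
open scoped commutatorElement

universe u

/-- The data of a minimal non-`p`-nilpotent group lying over the field with `p^a` elements. -/
structure Dat {p a : ℕ} [Fact p.Prime] (q r : ℕ) (ζ : GaloisField p a) (G : Type u) [Group G] where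
  P : Subgroup G
  normal : P.Normal
  isP : IsPGroup p P
  g : G
  ord : orderOf g = q ^ r
  sup_eq : P ⊔ zpowers g = ⊤
  π : P →* Multiplicative (GaloisField p a)
  surj : Function.Surjective π
  act : ∀ x : P, toAdd (π ⟨g * x * g⁻¹, normal.conj_mem x x.2 g⟩) = ζ * toAdd (π x)
  ker_prop : ∀ x : P, π x = 1 → g * (x : G) * g⁻¹ = x ∧ ∀ y : P, x * y = y * x
  irr : ∀ W : Subgroup G, W ≤ P → (∀ w ∈ W, g * w * g⁻¹ ∈ W) →
    (∀ c, ∃ x : P, (x : G) ∈ W ∧ π x = c) → W = P

variable {p q a r : ℕ} [hp : Fact p.Prime] [hq : Fact q.Prime] {ζ : GaloisField p a}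
  {G : Type u} [Group G]

namespace Dat

variable (D : Dat q r ζ G)

/-- Conjugation by the generator. -/
def conjg : MulAut D.P := haveI := D.normal; MulAut.conjNormal D.g

theorem conjg_coe (x : D.P) : (D.conjg x : G) = D.g * x * D.g⁻¹ :=
  haveI := D.normal
  MulAut.conjNormal_apply D.g x

theorem act' (x : D.P) : toAdd (D.π (D.conjg x)) = ζ * toAdd (D.π x) := by
  rw [← D.act x]
  exact congrArg (fun y => toAdd (D.π y)) (Subtype.ext (D.conjg_coe x))

theorem conjg_pow_coe (n : ℕ) (x : D.P) : ((D.conjg ^ n) x : G) = D.g ^ n * x * (D.g ^ n)⁻¹ := by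
  induction n with
  | zero => simp
  | succ n ih => rw [pow_succ', MulAut.mul_apply, conjg_coe, ih, pow_succ']; group

theorem act_pow (n : ℕ) (x : D.P) : toAdd (D.π ((D.conjg ^ n) x)) = ζ ^ n * toAdd (D.π x) := by
  induction n with
  | zero => simp
  | succ n ih => rw [pow_succ', MulAut.mul_apply, act', ih, pow_succ', mul_assoc]

theorem ker_fixed {z : D.P} (hz : D.π z = 1) : D.conjg z = z :=
  Subtype.ext (by rw [conjg_coe]; exact (D.ker_prop z hz).1)

theorem mem_ker_center {z : D.P} (hz : D.π z = 1) : z ∈ center D.P :=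
  mem_center_iff.2 fun y => ((D.ker_prop z hz).2 y).symm

theorem comm_ker (x y : D.P) : D.π ⁅x, y⁆ = 1 := by
  rw [map_commutatorElement, commutatorElement_eq_one_iff_mul_comm, mul_comm]

theorem comm_center (x y : D.P) : ⁅x, y⁆ ∈ center D.P := D.mem_ker_center (D.comm_ker x y)

theorem comm_fixed (x y : D.P) : D.conjg ⁅x, y⁆ = ⁅x, y⁆ := D.ker_fixed (D.comm_ker x y)

theorem conjg_q (hpq : p ≠ q) (h1 : ζ ^ q = 1) (x : D.P) : (D.conjg ^ q) x = x := by
  obtain ⟨z, hz⟩ : ∃ z, z = (D.conjg ^ q) x * x⁻¹ := ⟨_, rfl⟩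
  have hzk : D.π z = 1 := by
    rw [hz, map_mul, map_inv, mul_inv_eq_one]
    apply toAdd.injective
    rw [D.act_pow, h1, one_mul]
  have hzf : ∀ n : ℕ, (D.conjg ^ n) z = z := fun n => by
    induction n with
    | zero => simp
    | succ n ih => rw [pow_succ', MulAut.mul_apply, ih, D.ker_fixed hzk]
  have hzx : (D.conjg ^ q) x = z * x := by rw [hz, inv_mul_cancel_right]
  have hn : ∀ n : ℕ, ((D.conjg ^ q) ^ n) x = z ^ n * x := fun n => by
    induction n with
    | zero => simp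
    | succ n ih =>
        rw [pow_succ', MulAut.mul_apply, ih, map_mul, map_pow, hzf]
        rw [hzx, pow_succ, mul_assoc]
  have hone : D.conjg ^ q ^ r = 1 := by
    ext y
    rw [D.conjg_pow_coe, ← D.ord, pow_orderOf_eq_one]
    simp
  have h2 : z ^ q ^ r = 1 := by
    have h3 := hn (q ^ r)
    rw [← pow_mul, mul_comm q, pow_mul, hone, one_pow, MulAut.one_apply] at h3
    exact mul_right_cancel (b := x) (by rw [← h3, one_mul])
  obtain ⟨i, hi⟩ := IsPGroup.iff_orderOf.mp D.isP z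
  have h3 := orderOf_dvd_of_pow_eq_one h2
  rw [hi] at h3
  have h4 : z = 1 := by
    rw [← orderOf_eq_one_iff, hi]
    exact Nat.eq_one_of_dvd_coprimes (Nat.Coprime.pow i r ((Nat.coprime_primes hp.out hq.out).2 hpq))
      dvd_rfl h3
  exact mul_inv_eq_one.1 (hz.symm.trans h4)

theorem commute_pow_q (hpq : p ≠ q) (h1 : ζ ^ q = 1) (x : D.P) : Commute (D.g ^ q) (x : G) := by
  have h := congrArg Subtype.val (D.conjg_q hpq h1 x)
  rw [D.conjg_pow_coe] at h
  exact mul_inv_eq_iff_eq_mul.1 h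

theorem inter_eq_one (hpq : p ≠ q) {x : G} (hx : x ∈ D.P) (hxg : x ∈ zpowers D.g) : x = 1 := by
  obtain ⟨i, hi⟩ := IsPGroup.iff_orderOf.mp D.isP ⟨x, hx⟩
  rw [Subgroup.orderOf_mk] at hi
  have h1 := orderOf_dvd_of_mem_zpowers hxg
  rw [hi, D.ord] at h1
  rw [← orderOf_eq_one_iff, hi]
  exact Nat.eq_one_of_dvd_coprimes (Nat.Coprime.pow i r ((Nat.coprime_primes hp.out hq.out).2 hpq))
    dvd_rfl h1

theorem complement (hpq : p ≠ q) : Subgroup.IsComplement' D.P (zpowers D.g) := by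
  haveI := D.normal
  refine Subgroup.isComplement'_of_disjoint_and_mul_eq_univ ?_ ?_
  · exact disjoint_def.2 fun hx hxg => D.inter_eq_one hpq hx hxg
  · rw [← Subgroup.normal_mul, D.sup_eq, coe_top]

theorem card_eq [Finite G] (hpq : p ≠ q) : Nat.card G = Nat.card D.P * q ^ r := by
  rw [← (D.complement hpq).card_mul, Nat.card_zpowers, D.ord]

theorem sub_one_ne (h2 : ζ ≠ 1) : ζ - 1 ≠ 0 := sub_ne_zero.2 h2

include D in
theorem not_hasNormalPComplement [Finite G] (hpq : p ≠ q) (hr : 1 ≤ r) (h2 : ζ ≠ 1) :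
    ¬ Cfsg.HasNormalPComplement p G := by
  intro h
  obtain ⟨N, hN, hc, k, hk⟩ := Cfsg.Lib.Transfer.hasNormalPComplement_iff.1 h
  haveI := hN
  have hgN : D.g ∈ N := by
    rw [← QuotientGroup.eq_one_iff, ← orderOf_eq_one_iff]
    refine Nat.eq_one_of_dvd_coprimes
      (Nat.Coprime.pow k r ((Nat.coprime_primes hp.out hq.out).2 hpq)) ?_ (?_ : _ ∣ q ^ r)
    · rw [← hk, Subgroup.index_eq_card]; exact orderOf_dvd_natCard _
    · rw [← D.ord]; exact orderOf_map_dvd (QuotientGroup.mk' N) D.g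
  have hdis : ∀ x : G, x ∈ D.P → x ∈ N → x = 1 := fun x hx hxN => by
    obtain ⟨i, hi⟩ := IsPGroup.iff_orderOf.mp D.isP ⟨x, hx⟩
    rw [Subgroup.orderOf_mk] at hi
    have h3 := orderOf_dvd_natCard (⟨x, hxN⟩ : N)
    rw [Subgroup.orderOf_mk, hi] at h3
    rw [← orderOf_eq_one_iff, hi]
    exact Nat.eq_one_of_dvd_coprimes (Nat.Coprime.pow_left i hc.symm) dvd_rfl h3
  obtain ⟨x, hx⟩ := D.surj (ofAdd 1)
  have h3 : D.g * x * D.g⁻¹ * (x : G)⁻¹ = 1 := hdis _ (D.P.mul_mem (D.normal.conj_mem x x.2 D.g) (D.P.inv_mem x.2))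
    (by rw [mul_assoc, mul_assoc, ← mul_assoc (x : G)]; exact N.mul_mem hgN (hN.conj_mem _ (N.inv_mem hgN) x))
  have h4 : D.conjg x = x := Subtype.ext (by rw [conjg_coe]; exact mul_inv_eq_one.1 h3)
  have h5 := D.act' x
  rw [h4, hx, toAdd_ofAdd, mul_one] at h5
  exact h2 h5.symm

/-- Replace the generator by a conjugate under `P`. -/
def conj (c : D.P) : Dat q r ζ G where
  P := D.P
  normal := D.normal
  isP := D.isP
  g := (c : G) * D.g * (c : G)⁻¹
  ord := by
    rw [← MulAut.conj_apply]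
    exact (orderOf_injective (MulAut.conj (c : G)).toMonoidHom (MulAut.conj (c : G)).injective D.g).trans D.ord
  sup_eq := by
    have hle : D.P ≤ D.P ⊔ zpowers ((c : G) * D.g * (c : G)⁻¹) := le_sup_left
    refine eq_top_iff.2 (D.sup_eq.ge.trans (sup_le hle (zpowers_le.2 ?_)))
    have h := Subgroup.mul_mem _ (Subgroup.mul_mem _ (hle (D.P.inv_mem c.2))
      (mem_sup_right (mem_zpowers ((c : G) * D.g * (c : G)⁻¹)))) (hle c.2)
    simpa [mul_assoc] using h
  π := D.π
  surj := D.surj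
  act x := by
    have h : (⟨(c : G) * D.g * (c : G)⁻¹ * x * ((c : G) * D.g * (c : G)⁻¹)⁻¹,
        D.normal.conj_mem x x.2 _⟩ : D.P) = c * D.conjg (c⁻¹ * x * c) * c⁻¹ := by
      refine Subtype.ext ?_
      simp only [Subgroup.coe_mul, Subgroup.coe_inv, conjg_coe]
      group
    have hπ : ∀ y, D.π (c * y * c⁻¹) = D.π y := fun y => by
      rw [map_mul D.π, map_mul D.π, map_inv, mul_inv_cancel_comm]
    have hπ' : ∀ y, D.π (c⁻¹ * y * c) = D.π y := fun y => by
      rw [map_mul D.π, map_mul D.π, map_inv, inv_mul_cancel_comm]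
    rw [h, hπ, D.act', hπ']
  ker_prop x hx := ⟨by
    have h := (D.ker_prop x hx).2
    have hc : (x : G) * (c : G)⁻¹ = (c : G)⁻¹ * x := congrArg Subtype.val (h c⁻¹)
    have hc' : (x : G) * (c : G) = c * x := congrArg Subtype.val (h c)
    calc (c : G) * D.g * (c : G)⁻¹ * x * ((c : G) * D.g * (c : G)⁻¹)⁻¹
        = c * D.g * ((c : G)⁻¹ * x) * c * D.g⁻¹ * (c : G)⁻¹ := by group
      _ = c * D.g * ((x : G) * (c : G)⁻¹) * c * D.g⁻¹ * (c : G)⁻¹ := by rw [hc]
      _ = c * (D.g * x * D.g⁻¹) * (c : G)⁻¹ := by group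
      _ = c * x * (c : G)⁻¹ := by rw [(D.ker_prop x hx).1]
      _ = x := by rw [← hc', mul_inv_cancel_right], (D.ker_prop x hx).2⟩
  irr W hWP hinv hall := by
    let e : G →* G := (MulAut.conj (c : G)).toMonoidHom
    have he : ∀ w, e w = (c : G) * w * (c : G)⁻¹ := fun w => rfl
    have key : W.comap e = D.P := by
      refine D.irr _ (fun w hw => ?_) (fun w hw => ?_) fun t => ?_
      · have h := D.normal.conj_mem _ (hWP (show e w ∈ W from hw)) (c : G)⁻¹
        simpa [he, mul_assoc] using h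
      · show e (D.g * w * D.g⁻¹) ∈ W
        have h := hinv _ (show e w ∈ W from hw)
        rw [show e (D.g * w * D.g⁻¹) =
          (c : G) * D.g * (c : G)⁻¹ * e w * ((c : G) * D.g * (c : G)⁻¹)⁻¹ by rw [he, he]; group]
        exact h
      · obtain ⟨x, hx, hxt⟩ := hall t
        refine ⟨c⁻¹ * x * c, ?_, ?_⟩
        · show e _ ∈ W
          simpa [he, mul_assoc] using hx
        · rw [map_mul, map_mul, map_inv, hxt, inv_mul_cancel_comm]
    refine le_antisymm hWP fun x hx => ?_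
    have h : (c : G)⁻¹ * x * c ∈ W.comap e := key.ge (by simpa using D.normal.conj_mem x hx (c : G)⁻¹)
    simpa [he, mul_assoc] using (show e _ ∈ W from h)

/-- Replace the generator by a power prime to `q`. -/
def pow [Finite G] (i : ℕ) (hi : ¬ q ∣ i) : Dat q r (ζ ^ i) G where
  P := D.P
  normal := D.normal
  isP := D.isP
  g := D.g ^ i
  ord := by
    rw [Nat.Coprime.orderOf_pow, D.ord]
    rw [D.ord]
    exact Nat.Coprime.pow_left r (hq.out.coprime_iff_not_dvd.2 hi)
  sup_eq := by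
    rw [zpowers_pow_eq, D.sup_eq]
  π := D.π
  surj := D.surj
  act x := by
    rw [← D.act_pow i x]
    congr 2
    exact Subtype.ext (D.conjg_pow_coe i x).symm
  ker_prop x hx := ⟨by
    have hk : ∀ n : ℕ, (D.conjg ^ n) x = x := fun n => by
      induction n with
      | zero => simp
      | succ n ih => rw [pow_succ', MulAut.mul_apply, ih, D.ker_fixed hx]
    rw [← D.conjg_pow_coe, hk], (D.ker_prop x hx).2⟩
  irr W hWP hinv hall := by
    refine D.irr W hWP (fun w hw => ?_) hall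
    have hN : D.g ^ i ∈ normalizer (W : Set G) := mem_normalizer_fintype fun x hx => hinv x hx
    have hg : D.g ∈ normalizer (W : Set G) := zpowers_le.2 hN (zpowers_pow_eq.ge (mem_zpowers D.g))
    exact (mem_normalizer_iff.1 hg w).1 hw
where
  zpowers_pow_eq : zpowers (D.g ^ i) = zpowers D.g := by
    refine le_antisymm (zpowers_le.2 (pow_mem (mem_zpowers _) i)) (zpowers_le.2 ?_)
    rw [mem_zpowers_pow_iff, D.ord]
    exact (Nat.Coprime.pow_left r (hq.out.coprime_iff_not_dvd.2 hi)).symm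

theorem proper_of_mem [Finite G] (hpq : p ≠ q) (ha : a = orderOf (p : ZMod q)) (h1 : ζ ^ q = 1)
    (h2 : ζ ≠ 1) (H : Subgroup G) (hH : H ≠ ⊤) (hg : D.g ∈ H) : Cfsg.HasNormalPComplement p H := by
  set W := H ⊓ D.P with hW
  have hinv : ∀ w ∈ W, D.g * w * D.g⁻¹ ∈ W := fun w hw =>
    mem_inf.2 ⟨H.mul_mem (H.mul_mem hg hw.1) (H.inv_mem hg), D.normal.conj_mem w hw.2 D.g⟩
  let S : AddSubgroup (GaloisField p a) :=
    { carrier := {t | ∃ x : D.P, (x : G) ∈ W ∧ toAdd (D.π x) = t}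
      zero_mem' := ⟨1, by simp, by simp⟩
      add_mem' := by
        rintro _ _ ⟨x, hx, rfl⟩ ⟨y, hy, rfl⟩
        exact ⟨x * y, W.mul_mem hx hy, by rw [map_mul, toAdd_mul]⟩
      neg_mem' := by
        rintro _ ⟨x, hx, rfl⟩
        exact ⟨x⁻¹, W.inv_mem hx, by rw [map_inv, toAdd_inv]⟩ }
  have hfix : ∀ w ∈ W, Commute D.g w := by
    intro w hw
    by_cases hS : ∃ t ∈ S, t ≠ 0
    · have htop : S = ⊤ := invariant_top hpq ha h1 h2 S (fun t ⟨x, hx, hxt⟩ =>
        ⟨D.conjg x, by rw [conjg_coe]; exact hinv _ hx, by rw [D.act', hxt]⟩) hS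
      exfalso
      have hWP := D.irr W inf_le_right hinv fun c => by
        obtain ⟨x, hx, hxt⟩ := htop.ge (AddSubgroup.mem_top (toAdd c))
        exact ⟨x, hx, toAdd.injective hxt⟩
      exact hH (eq_top_iff.2 (D.sup_eq.ge.trans
        (sup_le (hWP.ge.trans inf_le_left) (zpowers_le.2 hg))))
    · push Not at hS
      have h := (D.ker_prop ⟨w, hw.2⟩ (toAdd.injective (hS _ ⟨⟨w, hw.2⟩, hw, rfl⟩))).1
      exact mul_inv_eq_iff_eq_mul.1 h
  refine Cfsg.Lib.Transfer.hasNormalPComplement_iff.2 ⟨(zpowers D.g).subgroupOf H, ⟨fun n hn y => ?_⟩, ?_, ?_⟩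
  · obtain ⟨x, hx, b, hb, hxy⟩ : ∃ x ∈ D.P, ∃ b ∈ zpowers D.g, x * b = (y : G) := by
      haveI := D.normal
      have h : (y : G) ∈ ((D.P ⊔ zpowers D.g : Subgroup G) : Set G) := by rw [D.sup_eq]; exact mem_top _
      rw [Subgroup.normal_mul] at h
      exact Set.mem_mul.1 h
    have hxH : x ∈ H := by
      rw [eq_mul_inv_of_mul_eq hxy]
      exact H.mul_mem y.2 (H.inv_mem (zpowers_le.2 hg hb))
    obtain ⟨m, hm⟩ := mem_zpowers_iff.1 (show (n : G) ∈ zpowers D.g from hn)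
    obtain ⟨j, rfl⟩ := mem_zpowers_iff.1 hb
    show (y : G) * n * (y : G)⁻¹ ∈ zpowers D.g
    rw [← hxy, ← hm]
    refine mem_zpowers_iff.2 ⟨m, ?_⟩
    have hc : Commute x (D.g ^ m) := ((hfix x ⟨hxH, hx⟩).zpow_left m).symm
    calc D.g ^ m = D.g ^ m * x * x⁻¹ := by rw [mul_inv_cancel_right]
      _ = x * D.g ^ m * x⁻¹ := by rw [hc.eq]
      _ = x * D.g ^ j * D.g ^ m * (x * D.g ^ j)⁻¹ := by group
  · rw [Nat.card_congr (subgroupOfEquivOfLe (zpowers_le.2 hg)).toEquiv, Nat.card_zpowers, D.ord]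
    exact Nat.Coprime.pow_left r ((Nat.coprime_primes hq.out hp.out).2 hpq.symm)
  · have h3 : (zpowers D.g).relIndex H * q ^ r ∣ Nat.card D.P * q ^ r := by
      rw [← D.card_eq hpq, ← D.ord, ← Nat.card_zpowers,
        ← Nat.card_congr (subgroupOfEquivOfLe (zpowers_le.2 hg)).toEquiv, mul_comm, Subgroup.relIndex,
        Subgroup.card_mul_index]
      exact card_subgroup_dvd_card H
    have h4 := Nat.dvd_of_mul_dvd_mul_right (pow_pos hq.out.pos r) h3
    obtain ⟨n, hn⟩ := D.isP.exists_card_eq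
    rw [hn] at h4
    obtain ⟨k, -, hk⟩ := (Nat.dvd_prime_pow hp.out).1 h4
    exact ⟨k, hk⟩

include D in
theorem minimal [Finite G] (hpq : p ≠ q) (hr : 1 ≤ r) (ha : a = orderOf (p : ZMod q)) (h1 : ζ ^ q = 1)
    (h2 : ζ ≠ 1) (H : Subgroup G) (hH : H ≠ ⊤) : Cfsg.HasNormalPComplement p H := by
  classical
  haveI := D.normal
  obtain ⟨S⟩ : Nonempty (Sylow q H) := inferInstance
  have hTq : IsPGroup q ((S : Subgroup H).map H.subtype) := S.2.map _
  obtain ⟨n, hn⟩ := D.isP.exists_card_eq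
  have hgS : IsPGroup q (zpowers D.g) := IsPGroup.of_card (by rw [Nat.card_zpowers, D.ord])
  have hgi : ¬ q ∣ (zpowers D.g).index := by
    rw [(D.complement hpq).index_eq_card, hn]
    exact fun h => hpq ((Nat.prime_dvd_prime_iff_eq hq.out hp.out).1 (hq.out.dvd_of_dvd_pow h)).symm
  obtain ⟨Q, hQ⟩ := hTq.exists_le_sylow
  obtain ⟨d, hd⟩ := MulAction.exists_smul_eq G (hgS.toSylow hgi) Q
  obtain ⟨x, hx, b, hb, hxb⟩ : ∃ x ∈ D.P, ∃ b ∈ zpowers D.g, x * b = d := by
    have h : d ∈ ((D.P ⊔ zpowers D.g : Subgroup G) : Set G) := by rw [D.sup_eq]; exact mem_top _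
    rw [Subgroup.normal_mul] at h
    exact Set.mem_mul.1 h
  have hT : ∀ t ∈ (S : Subgroup H).map H.subtype, ∃ m : ℤ, x * D.g ^ m * x⁻¹ = t := by
    intro t ht
    have h := hQ ht
    rw [← hd] at h
    change t ∈ ((d • hgS.toSylow hgi : Sylow q G) : Subgroup G) at h
    rw [Sylow.coe_subgroup_smul, Subgroup.mem_pointwise_smul_iff_inv_smul_mem] at h
    obtain ⟨j, rfl⟩ := mem_zpowers_iff.1 hb
    obtain ⟨m, hm⟩ := mem_zpowers_iff.1 (show _ ∈ zpowers D.g from h)
    refine ⟨m, ?_⟩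
    have h2' : D.g ^ m = d⁻¹ * t * d := by
      rw [hm]
      simp [MulAut.smul_def, mul_assoc]
    rw [← hxb] at h2'
    calc x * D.g ^ m * x⁻¹ = x * (D.g ^ j * D.g ^ m * (D.g ^ j)⁻¹) * x⁻¹ := by group
      _ = t := by rw [h2']; group
  by_cases hB : ∀ t ∈ (S : Subgroup H).map H.subtype, t ∈ zpowers (D.g ^ q)
  · have hqn : (zpowers (D.g ^ q)).Normal := by
      refine normalizer_eq_top_iff.1 (top_le_iff.1 (D.sup_eq.ge.trans (sup_le (fun y hy => ?_) ?_)))
      · rw [mem_normalizer_iff]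
        intro z
        have hcom : ∀ z ∈ zpowers (D.g ^ q), y * z * y⁻¹ = z := by
          intro z hz
          obtain ⟨m, rfl⟩ := mem_zpowers_iff.1 hz
          rw [((D.commute_pow_q hpq h1 ⟨y, hy⟩).zpow_left m).symm.eq, mul_inv_cancel_right]
        refine ⟨fun hz => by rwa [hcom z hz], fun hz => ?_⟩
        have h := hcom _ hz
        have h' : y * z * y⁻¹ = z := by
          have := mul_left_cancel (mul_right_cancel h)
          exact this
        rwa [h'] at hz
      · refine zpowers_le.2 (mem_normalizer_fintype fun z hz => ?_)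
        obtain ⟨m, rfl⟩ := mem_zpowers_iff.1 hz
        rw [(((Commute.refl D.g).pow_right q).zpow_right m).eq, mul_inv_cancel_right]
        exact hz
    refine Cfsg.Lib.Transfer.hasNormalPComplement_iff.2
      ⟨(zpowers (D.g ^ q)).subgroupOf H, inferInstance, ?_, ?_⟩
    · refine Nat.Coprime.coprime_dvd_left ?_
        (Nat.Coprime.pow_left r ((Nat.coprime_primes hq.out hp.out).2 hpq.symm) : (q ^ r).Coprime p)
      rw [← D.ord, ← Nat.card_zpowers]
      refine dvd_trans ?_ (card_dvd_of_le (zpowers_le.2 (pow_mem (mem_zpowers D.g) q)))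
      rw [← Subgroup.inf_subgroupOf_right, Nat.card_congr (subgroupOfEquivOfLe inf_le_right).toEquiv]
      exact card_dvd_of_le inf_le_left
    · have h3 : (zpowers (D.g ^ q)).relIndex H ∣ Nat.card D.P * q := by
        refine (relIndex_dvd_index_of_normal _ _).trans ?_
        refine (Nat.dvd_of_mul_dvd_mul_right (Nat.card_pos (α := zpowers (D.g ^ q))) ?_)
        rw [mul_comm, Subgroup.card_mul_index, D.card_eq hpq, mul_assoc, Nat.card_zpowers,
          orderOf_pow' _ hq.out.ne_zero, D.ord, Nat.gcd_eq_right (dvd_pow_self q (by omega)),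
          Nat.mul_div_cancel' (dvd_pow_self q (by omega))]
      have h4 : ¬ q ∣ (zpowers (D.g ^ q)).relIndex H := fun h => by
        have h5 : (S : Subgroup H) ≤ (zpowers (D.g ^ q)).subgroupOf H := fun s hs => hB _ ⟨s, hs, rfl⟩
        exact S.not_dvd_index (h.trans (index_dvd_of_le h5))
      have h5 : (zpowers (D.g ^ q)).relIndex H ∣ Nat.card D.P :=
        ((hq.out.coprime_iff_not_dvd.2 h4).symm).dvd_of_dvd_mul_right h3
      rw [hn] at h5
      obtain ⟨k, -, hk⟩ := (Nat.dvd_prime_pow hp.out).1 h5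
      exact ⟨k, hk⟩
  · push Not at hB
    obtain ⟨t, ht, htn⟩ := hB
    obtain ⟨m, hm⟩ := hT t ht
    have hmq : ¬ (q : ℤ) ∣ m := by
      rintro ⟨l, rfl⟩
      refine htn (mem_zpowers_iff.2 ⟨l, ?_⟩)
      rw [← hm, zpow_mul, zpow_natCast, ← ((D.commute_pow_q hpq h1 ⟨x, hx⟩).zpow_left l).eq,
        mul_inv_cancel_right]
    have htH : t ∈ H := by
      obtain ⟨s, -, rfl⟩ := ht
      exact s.2
    refine (D.conj ⟨x, hx⟩).proper_of_mem hpq ha h1 h2 H hH ?_
    show x * D.g * x⁻¹ ∈ H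
    have hco : Int.gcd m (q ^ r : ℕ) = 1 := by
      rw [← Int.isCoprime_iff_gcd_eq_one, Nat.cast_pow]
      exact (((Nat.prime_iff_prime_int.1 hq.out).coprime_iff_not_dvd.2 hmq).pow_left).symm
    obtain ⟨u, v, huv⟩ := Int.isCoprime_iff_gcd_eq_one.2 hco
    have h6 : t ^ u = x * D.g * x⁻¹ := by
      have h7 : D.g ^ (m * u) = D.g := by
        have h8 : D.g ^ ((q ^ r : ℕ) : ℤ) = 1 := by rw [zpow_natCast, ← D.ord, pow_orderOf_eq_one]
        conv_rhs => rw [← zpow_one D.g, ← huv, zpow_add, mul_comm v, zpow_mul D.g _ v, h8, one_zpow,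
          mul_one, mul_comm u]
      rw [← hm, ← MulAut.conj_apply, ← map_zpow, ← zpow_mul, h7, MulAut.conj_apply]
    rw [← h6]
    exact H.zpow_mem htH u

theorem ker_le_commutator (hpq : p ≠ q) (h1 : ζ ^ q = 1) (h2 : ζ ≠ 1) {z : D.P} (hz : D.π z = 1) :
    z ∈ commutator D.P := by
  let f : D.P →* Abelianization D.P := Abelianization.of
  let ψ : D.P →* Abelianization D.P :=
    MonoidHom.mk' (fun x => ∏ i ∈ Finset.range q, f ((D.conjg ^ i) x)) fun x y => by
      simp only [map_mul]; exact Finset.prod_mul_distrib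
  have hψσ : ∀ x, ψ (D.conjg x) = ψ x := by
    intro x
    show ∏ i ∈ Finset.range q, f ((D.conjg ^ i) (D.conjg x)) = ∏ i ∈ Finset.range q, f ((D.conjg ^ i) x)
    have h : ∀ i : ℕ, (D.conjg ^ i) (D.conjg x) = (D.conjg ^ (i + 1)) x := fun i => by
      rw [pow_succ, MulAut.mul_apply]
    simp only [h]
    have h3 := Finset.prod_range_succ' (fun i => f ((D.conjg ^ i) x)) q
    rw [Finset.prod_range_succ] at h3
    rw [D.conjg_q hpq h1, pow_zero, MulAut.one_apply] at h3
    exact (mul_right_cancel h3).symm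
  set T := closure (Set.range fun x : D.P => x⁻¹ * D.conjg x) with hT
  have hinvT : ∀ w ∈ T, D.conjg w ∈ T := fun w hw => by
    have h : T ≤ T.comap D.conjg.toMonoidHom := (closure_le _).2 fun y ⟨x, hx⟩ => by
      refine subset_closure ⟨D.conjg x, ?_⟩
      show (D.conjg x)⁻¹ * D.conjg (D.conjg x) = D.conjg y
      rw [← hx, map_mul, map_inv]
    exact h hw
  have hTP : T.map D.P.subtype = D.P := by
    refine D.irr _ (map_subtype_le _) ?_ fun c => ?_
    · rintro _ ⟨w, hw, rfl⟩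
      exact ⟨D.conjg w, hinvT w hw, D.conjg_coe w⟩
    · obtain ⟨x, hx⟩ := D.surj (ofAdd (toAdd c / (ζ - 1)))
      refine ⟨x⁻¹ * D.conjg x, ⟨_, subset_closure ⟨x, rfl⟩, rfl⟩, toAdd.injective ?_⟩
      rw [map_mul, map_inv, toAdd_mul, toAdd_inv, D.act', hx, toAdd_ofAdd]
      field_simp [sub_ne_zero.2 h2]
      ring
  have hψ : ∀ w ∈ T, ψ w = 1 := fun w hw => by
    have h : T ≤ ψ.ker := (closure_le _).2 fun y ⟨x, hx⟩ => by
      show ψ y = 1
      rw [← hx, map_mul, map_inv, hψσ, inv_mul_cancel]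
    exact h hw
  have hzT : z ∈ T := by
    obtain ⟨w, hw, hwz⟩ := hTP.ge z.2
    rwa [← Subtype.ext hwz]
  have h3 : f z ^ q = 1 := by
    have h4 : ∀ i : ℕ, (D.conjg ^ i) z = z := fun i => by
      induction i with
      | zero => simp
      | succ i ih => rw [pow_succ', MulAut.mul_apply, ih, D.ker_fixed hz]
    have h5 : ∏ i ∈ Finset.range q, f ((D.conjg ^ i) z) = 1 := hψ z hzT
    simpa [h4] using h5
  obtain ⟨i, hi⟩ := IsPGroup.iff_orderOf.mp D.isP z
  have h4 : f z ^ p ^ i = 1 := by rw [← map_pow, ← hi, pow_orderOf_eq_one, map_one]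
  have h5 : f z = 1 := by
    have h6 := pow_gcd_eq_one.2 ⟨h4, h3⟩
    rwa [Nat.Coprime.pow_left i ((Nat.coprime_primes hp.out hq.out).2 hpq), pow_one] at h6
  rw [← Abelianization.ker_of]
  exact h5

end Dat

end Cfsg.Lib.USchmidt
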