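/-
The normal Sylow subgroup of such data has order at most `p^a₀`.
-/
import Cfsg.Agent.SolvStruct.UniversalSchmidt.Dat
import Cfsg.Agent.PGroups.Commutators

set_option autoImplicit false

namespace Cfsg.Lib.USchmidt

open Subgroup Multiplicative Polynomial Cfsg.Lib.PGroups
open scoped commutatorElement

universe u

theorem aeval_fixed {p a : ℕ} [Fact p.Prime] (τ : GaloisField p a →+* GaloisField p a)
    (x : GaloisField p a) (f : (ZMod p)[X]) : τ (aeval x f) = aeval (τ x) f := by
  rw [aeval_def, aeval_def, Polynomial.hom_eval₂]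
  congr 1
  exact Subsingleton.elim _ _

namespace Dat

variable {p q a r : ℕ} [hp : Fact p.Prime] [hq : Fact q.Prime] {ζ : GaloisField p a}
  {G : Type u} [Group G] (D : Dat q r ζ G)

/-- A section of the projection. -/
noncomputable def sec (x : GaloisField p a) : D.P := (D.surj (ofAdd x)).choose

theorem pi_sec (x : GaloisField p a) : D.π (D.sec x) = ofAdd x := (D.surj (ofAdd x)).choose_spec

/-- The commutator form on the field. -/
noncomputable def bracket (x y : GaloisField p a) : D.P := ⁅D.sec x, D.sec y⁆

theorem bracket_spec (u v : D.P) : ⁅u, v⁆ = D.bracket (toAdd (D.π u)) (toAdd (D.π v)) := by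
  have key : ∀ u v : D.P, ⁅u, v⁆ = ⁅D.sec (toAdd (D.π u)), v⁆ := by
    intro u v
    set s := D.sec (toAdd (D.π u))
    have hz : u * s⁻¹ ∈ center D.P := D.mem_ker_center (by
      rw [map_mul, map_inv, D.pi_sec, ofAdd_toAdd, mul_inv_cancel])
    have h1 : ⁅u * s⁻¹, v⁆ = 1 := commutatorElement_eq_one_iff_mul_comm.2 (mem_center_iff.1 hz v).symm
    have h2 := commutator_mul_left_of_central (x := u * s⁻¹) (D.comm_center s v)
    rwa [inv_mul_cancel_right, h1, one_mul] at h2
  rw [key u v, ← commutatorElement_inv v, key v, commutatorElement_inv]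
  rfl

theorem bracket_mem_ker (x y : GaloisField p a) : D.π (D.bracket x y) = 1 := D.comm_ker _ _

theorem bracket_add_left (x x' y : GaloisField p a) :
    D.bracket (x + x') y = D.bracket x y * D.bracket x' y := by
  have h := D.bracket_spec (D.sec x * D.sec x') (D.sec y)
  rw [commutator_mul_left_of_central (D.comm_center _ _), map_mul, toAdd_mul, D.pi_sec, D.pi_sec,
    D.pi_sec, toAdd_ofAdd, toAdd_ofAdd, toAdd_ofAdd] at h
  exact h.symm

theorem bracket_add_right (x y y' : GaloisField p a) :
    D.bracket x (y + y') = D.bracket x y * D.bracket x y' := by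
  have h := D.bracket_spec (D.sec x) (D.sec y * D.sec y')
  rw [commutator_mul_right_of_central (D.comm_center _ _), map_mul, toAdd_mul, D.pi_sec, D.pi_sec,
    D.pi_sec, toAdd_ofAdd, toAdd_ofAdd, toAdd_ofAdd] at h
  exact h.symm

theorem bracket_self (x : GaloisField p a) : D.bracket x x = 1 := commutatorElement_self _

theorem bracket_zero_left (y : GaloisField p a) : D.bracket 0 y = 1 :=
  (mul_eq_left (a := D.bracket 0 y)).1 (by rw [← D.bracket_add_left, add_zero])

theorem bracket_zero_right (x : GaloisField p a) : D.bracket x 0 = 1 :=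
  (mul_eq_left (a := D.bracket x 0)).1 (by rw [← D.bracket_add_right, add_zero])

theorem bracket_nsmul_left (c : ℕ) (x y : GaloisField p a) : D.bracket (c • x) y = D.bracket x y ^ c := by
  induction c with
  | zero => rw [zero_smul, pow_zero, bracket_zero_left]
  | succ c ih => rw [succ_nsmul, bracket_add_left, ih, pow_succ]

theorem bracket_nsmul_right (c : ℕ) (x y : GaloisField p a) : D.bracket x (c • y) = D.bracket x y ^ c := by
  induction c with
  | zero => rw [zero_smul, pow_zero, bracket_zero_right]
  | succ c ih => rw [succ_nsmul, bracket_add_right, ih, pow_succ]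

theorem bracket_zeta (x y : GaloisField p a) : D.bracket (ζ * x) (ζ * y) = D.bracket x y := by
  have h := D.comm_fixed (D.sec x) (D.sec y)
  rw [map_commutatorElement, D.bracket_spec, D.act', D.act', D.pi_sec, D.pi_sec, toAdd_ofAdd,
    toAdd_ofAdd] at h
  exact h

theorem bracket_aeval (hz : ζ ≠ 0) (f : (ZMod p)[X]) (x y : GaloisField p a) :
    D.bracket (aeval ζ f * x) y = D.bracket x (aeval ζ⁻¹ f * y) := by
  induction f using Polynomial.induction_on' generalizing x y with
  | add f g hf hg => rw [map_add, map_add, add_mul, add_mul, bracket_add_left, bracket_add_right, hf, hg]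
  | monomial n c =>
      have hn : ∀ (n : ℕ) (x y : GaloisField p a), D.bracket (ζ ^ n * x) y = D.bracket x (ζ⁻¹ ^ n * y) := by
        intro n
        induction n with
        | zero => intro x y; simp
        | succ n ih =>
            intro x y
            rw [pow_succ, mul_assoc, ih, ← bracket_zeta D x, pow_succ', ← mul_assoc, ← mul_assoc,
              mul_inv_cancel₀ hz, one_mul]
      rw [aeval_monomial, aeval_monomial, mul_assoc, mul_assoc, ← ZMod.natCast_zmod_val c, map_natCast,
        ← nsmul_eq_mul, ← nsmul_eq_mul, bracket_nsmul_left, bracket_nsmul_right, hn]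

theorem card_P [Finite G] (hpq : p ≠ q) (ha : a = orderOf (p : ZMod q)) :
    Nat.card D.P = p ^ a * Nat.card D.π.ker := by
  rw [← D.π.ker.card_mul_index, Subgroup.index_ker, MonoidHom.range_eq_top_of_surjective _ D.surj,
    Subgroup.card_top, Nat.card_congr (Multiplicative.toAdd (α := GaloisField p a)),
    GaloisField.card p a (order_ne_zero hpq ha), mul_comm]

theorem card_le [Finite G] (hpq : p ≠ q) (ha : a = orderOf (p : ZMod q)) (h1 : ζ ^ q = 1) (h2 : ζ ≠ 1) :
    Nat.card D.P ≤ p ^ (if a % 2 = 1 then a else 3 * a / 2) := by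
  have ha0 := order_ne_zero hpq ha
  have hz := zeta_ne_zero h1
  rw [D.card_P hpq ha]
  have hker : D.π.ker ≤ commutator D.P := fun z hz => D.ker_le_commutator hpq h1 h2 hz
  by_cases hodd : a % 2 = 1
  · rw [if_pos hodd]
    have hb : ∀ x y, D.bracket x y = 1 := by
      by_cases hroot : aeval ζ⁻¹ (minpoly (ZMod p) ζ) = 0
      · have ha1 := eq_one_of_inv_root hpq ha h1 h2 (by omega) hroot
        have hcard : Nat.card (GaloisField p a) = p := by
          rw [GaloisField.card p a ha0, ha1, pow_one]
        intro x y
        obtain ⟨c, rfl⟩ := AddSubmonoid.mem_multiples_iff _ _ |>.1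
          (mem_multiples_of_prime_card hcard (one_ne_zero (α := GaloisField p a)) (g' := x))
        obtain ⟨d, rfl⟩ := AddSubmonoid.mem_multiples_iff _ _ |>.1
          (mem_multiples_of_prime_card hcard (one_ne_zero (α := GaloisField p a)) (g' := y))
        rw [bracket_nsmul_left, bracket_nsmul_right, bracket_self, one_pow, one_pow]
      · intro x y
        have h := D.bracket_aeval hz (minpoly (ZMod p) ζ) x ((aeval ζ⁻¹ (minpoly (ZMod p) ζ))⁻¹ * y)
        rw [minpoly.aeval, zero_mul, bracket_zero_left, ← mul_assoc, mul_inv_cancel₀ hroot, one_mul] at h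
        exact h.symm
    have hc : commutator D.P = ⊥ := by
      rw [_root_.commutator_def, eq_bot_iff, Subgroup.commutator_le]
      intro u _ v _
      rw [Subgroup.mem_bot, D.bracket_spec, hb]
    rw [Subgroup.card_eq_one.2 (le_bot_iff.1 (hker.trans hc.le)), mul_one]
  · rw [if_neg hodd]
    have hb2 : a = 2 * (a / 2) := by omega
    obtain ⟨-, -, hfix, -, hcardT⟩ := card_trace (p := p) hb2 ha0
    set τ := iterateFrobenius (GaloisField p a) p (a / 2) with hτ
    have hτζ : τ ζ = ζ⁻¹ := eq_inv_of_mul_eq_one_left (tau_zeta hpq ha hb2 h1)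
    have hmul : ∀ w x y, D.bracket (w * x) y = D.bracket x (τ w * y) := by
      intro w x y
      obtain ⟨f, rfl⟩ := zeta_gen hpq ha h1 h2 w
      rw [D.bracket_aeval hz, aeval_fixed, hτζ]
    let L : Multiplicative (GaloisField p a) →* D.P :=
      MonoidHom.mk' (fun x => D.bracket 1 (toAdd x)) fun x y => by rw [toAdd_mul, bracket_add_right]
    have hL : ∀ x y, D.bracket x y = L (ofAdd (τ x * y)) := fun x y => by
      have h := hmul x 1 y
      rwa [mul_one] at h
    have hN : ∀ x, L (ofAdd (τ x * x)) = 1 := fun x => by rw [← hL, bracket_self]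
    have hT : ∀ x, L (ofAdd (x + τ x)) = 1 := fun x => by
      have h : x + τ x = τ (1 + x) * (1 + x) - (τ 1 * 1 + τ x * x) := by rw [map_add, map_one]; ring
      rw [h, ofAdd_sub, _root_.map_div, hN, ofAdd_add, map_mul, hN, hN, mul_one, div_one]
    have hLle : Nat.card L.range ≤ p ^ (a / 2) := by
      have h1' : p ^ (a / 2) ≤ Nat.card L.ker := by
        rw [← hcardT]
        refine Nat.card_le_card_of_injective (fun t => ⟨ofAdd t.1, ?_⟩) fun s t h => ?_
        · obtain ⟨x, hx⟩ := t.2
          show L (ofAdd t.1) = 1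
          rw [← hx]; exact hT x
        · exact Subtype.ext (ofAdd.injective (Subtype.ext_iff.1 h :))
      have h2' := L.ker.card_mul_index
      rw [Subgroup.index_ker, Nat.card_congr (Multiplicative.toAdd (α := GaloisField p a)),
        GaloisField.card p a ha0, show p ^ a = p ^ (a / 2) * p ^ (a / 2) by
          rw [← pow_add]; congr 1; omega] at h2'
      have hpos : 0 < p ^ (a / 2) := pow_pos hp.out.pos _
      nlinarith
    have hc : commutator D.P ≤ L.range := by
      rw [_root_.commutator_def, Subgroup.commutator_le]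
      intro u _ v _
      rw [D.bracket_spec, hL]
      exact ⟨_, rfl⟩
    calc p ^ a * Nat.card D.π.ker ≤ p ^ a * p ^ (a / 2) := by
          exact Nat.mul_le_mul_left _ ((Subgroup.card_le_of_le (hker.trans hc)).trans hLle)
      _ = p ^ (3 * a / 2) := by rw [← pow_add]; congr 1; omega

end Dat

end Cfsg.Lib.USchmidt
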