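/-
The universal group: a special `p`-group over the field, extended by a cyclic `q`-group.
-/
import Cfsg.Agent.SolvStruct.UniversalSchmidt.Dat

set_option autoImplicit false

namespace Cfsg.Lib.USchmidt

open Subgroup Multiplicative SemidirectProduct

universe u v

variable {p q a r : ℕ} [hp : Fact p.Prime] [hq : Fact q.Prime] {ζ : GaloisField p a}

theorem exists_dat_of {N : Type v} [Group N] [Finite N] (hN : IsPGroup p N)
    (π : N →* Multiplicative (GaloisField p a)) (hπ : Function.Surjective π) (σ : MulAut N)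
    (hσq : σ ^ q ^ r = 1) (hact : ∀ x, toAdd (π (σ x)) = ζ * toAdd (π x))
    (hker : ∀ x, π x = 1 → σ x = x ∧ ∀ y, x * y = y * x)
    (hirr : ∀ W : Subgroup N, (∀ w ∈ W, σ w ∈ W) → (∀ c, ∃ x ∈ W, π x = c) → W = ⊤) :
    ∃ (G₀ : Type (max u v)) (_ : Group G₀) (_ : Finite G₀) (D : Dat q r ζ G₀),
      Nat.card D.P = Nat.card N := by
  classical
  haveI : NeZero (q ^ r) := ⟨pow_ne_zero r hq.out.ne_zero⟩
  let φ : Multiplicative (ZMod (q ^ r)) →* MulAut N :=
    MonoidHom.mk' (fun x => σ ^ (toAdd x).val) fun x y => by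
      rw [toAdd_mul, ZMod.val_add, ← pow_eq_pow_mod _ hσq, pow_add]
  let e : (N ⋊[φ] Multiplicative (ZMod (q ^ r))) ≃* ULift.{u} (N ⋊[φ] Multiplicative (ZMod (q ^ r))) :=
    MulEquiv.ulift.symm
  haveI : Finite (N ⋊[φ] Multiplicative (ZMod (q ^ r))) := Finite.of_equiv _ SemidirectProduct.equivProd.symm
  let G := ULift.{u} (N ⋊[φ] Multiplicative (ZMod (q ^ r)))
  let f : N →* G := e.toMonoidHom.comp SemidirectProduct.inl
  have hf : Function.Injective f := e.injective.comp inl_injective
  let ee : N ≃* f.range := MonoidHom.ofInjective hf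
  have hee : ∀ x : f.range, f (ee.symm x) = x := fun x => by
    conv_rhs => rw [← ee.apply_symm_apply x]
    rfl
  let g : G := e (SemidirectProduct.inr (ofAdd 1))
  have hord : orderOf g = q ^ r := by
    show orderOf (e _) = _
    rw [e.orderOf_eq, orderOf_injective _ inr_injective, orderOf_ofAdd_eq_addOrderOf, ZMod.addOrderOf_one]
  have hφ1 : φ (ofAdd (1 : ZMod (q ^ r))) = σ := by
    show σ ^ (1 : ZMod (q ^ r)).val = σ
    rw [← Nat.cast_one, ZMod.val_natCast, ← pow_eq_pow_mod _ hσq, pow_one]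
  have hgf : ∀ x : N, g * f x * g⁻¹ = f (σ x) := fun x => by
    show e _ * e _ * (e _)⁻¹ = e _
    rw [← map_inv, ← map_mul, ← map_mul, ← hφ1, SemidirectProduct.inl_aut, map_inv]
  have hnorm : f.range.Normal := by
    rw [MonoidHom.range_comp]
    exact (by rw [range_inl_eq_ker_rightHom]; infer_instance :
      (SemidirectProduct.inl (φ := φ)).range.Normal).map _ e.surjective
  have hsup : f.range ⊔ zpowers g = ⊤ := by
    refine eq_top_iff.2 fun y _ => ?_
    obtain ⟨z, rfl⟩ := e.surjective y
    rw [← inl_left_mul_inr_right z, map_mul]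
    refine Subgroup.mul_mem _ (mem_sup_left ⟨_, rfl⟩) (mem_sup_right ?_)
    refine mem_zpowers_iff.2 ⟨((toAdd z.right).val : ℕ), ?_⟩
    show (e (inr (ofAdd (1 : ZMod (q ^ r))))) ^ ((toAdd z.right).val : ℤ) = e (inr z.right)
    rw [zpow_natCast, ← map_pow, ← map_pow, ← ofAdd_nsmul, nsmul_one, ZMod.natCast_zmod_val, ofAdd_toAdd]
  refine ⟨G, inferInstance, inferInstance,
    { P := f.range
      normal := hnorm
      isP := hN.of_equiv ee
      g := g
      ord := hord
      sup_eq := hsup
      π := π.comp ee.symm.toMonoidHom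
      surj := hπ.comp ee.symm.surjective
      act := ?_
      ker_prop := ?_
      irr := ?_ }, Nat.card_congr ee.symm.toEquiv⟩
  · intro x
    show toAdd (π (ee.symm _)) = ζ * toAdd (π (ee.symm x))
    rw [← hact]
    congr 2
    refine hf ?_
    rw [hee, ← hgf, hee]
  · intro x hx
    obtain ⟨h1, h2⟩ := hker _ hx
    refine ⟨?_, fun y => ?_⟩
    · rw [← hee x, hgf]
      exact congrArg f h1
    · refine ee.symm.injective ?_
      rw [map_mul, map_mul]
      exact h2 _
  · intro W hWP hinv hall
    have key : W.comap f = ⊤ := by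
      refine hirr _ (fun w hw => ?_) fun c => ?_
      · show f (σ w) ∈ W
        rw [← hgf]
        exact hinv _ hw
      · obtain ⟨x, hx, hxc⟩ := hall c
        exact ⟨ee.symm x, by show f _ ∈ W; rwa [hee], hxc⟩
    refine le_antisymm hWP ?_
    rintro _ ⟨x, rfl⟩
    exact key.ge (mem_top x)

variable (p a) in
/-- Pairs `(x, z)` with `z + τ z = x τ x`. -/
@[ext] structure Pairs (τ : GaloisField p a →+* GaloisField p a) (hτ : ∀ x, τ (τ x) = x) where
  fst : GaloisField p a
  snd : GaloisField p a
  eq : snd + τ snd = fst * τ fst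

namespace Pairs

noncomputable section

variable {τ : GaloisField p a →+* GaloisField p a} {hτ : ∀ x, τ (τ x) = x}

instance : One (Pairs p a τ hτ) := ⟨⟨0, 0, by simp⟩⟩

instance : Mul (Pairs p a τ hτ) :=
  ⟨fun s t => ⟨s.fst + t.fst, s.snd + t.snd + τ s.fst * t.fst, by
    simp only [map_add, map_mul, hτ]
    linear_combination s.eq + t.eq⟩⟩

instance : Inv (Pairs p a τ hτ) :=
  ⟨fun s => ⟨-s.fst, -s.snd + τ s.fst * s.fst, by
    simp only [map_add, map_mul, map_neg, hτ]
    linear_combination -s.eq⟩⟩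

@[simp] theorem one_fst : (1 : Pairs p a τ hτ).fst = 0 := rfl
@[simp] theorem one_snd : (1 : Pairs p a τ hτ).snd = 0 := rfl
@[simp] theorem mul_fst (s t : Pairs p a τ hτ) : (s * t).fst = s.fst + t.fst := rfl
@[simp] theorem mul_snd (s t : Pairs p a τ hτ) : (s * t).snd = s.snd + t.snd + τ s.fst * t.fst := rfl
@[simp] theorem inv_fst (s : Pairs p a τ hτ) : s⁻¹.fst = -s.fst := rfl
@[simp] theorem inv_snd (s : Pairs p a τ hτ) : s⁻¹.snd = -s.snd + τ s.fst * s.fst := rfl

instance : Group (Pairs p a τ hτ) :=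
  Group.ofLeftAxioms
    (fun s t u => Pairs.ext (add_assoc _ _ _) (by simp only [mul_snd, mul_fst, map_add]; ring))
    (fun s => Pairs.ext (by simp) (by simp))
    (fun s => Pairs.ext (by simp) (by simp))

instance : Finite (Pairs p a τ hτ) :=
  Finite.of_injective (fun s : Pairs p a τ hτ => (s.fst, s.snd)) fun s t h =>
    Pairs.ext (congrArg Prod.fst h) (congrArg Prod.snd h)

/-- The projection. -/
def proj : Pairs p a τ hτ →* Multiplicative (GaloisField p a) :=
  MonoidHom.mk' (fun s => ofAdd s.fst) fun s t => by rw [mul_fst, ofAdd_add]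

/-- Multiplication of the first coordinate by a scalar of norm one. -/
def scale (c d : GaloisField p a) (hc : τ c * c = 1) (hd : c * d = 1) : MulAut (Pairs p a τ hτ) where
  toFun s := ⟨c * s.fst, s.snd, by rw [map_mul]; linear_combination s.eq - (s.fst * τ s.fst) * hc⟩
  invFun s := ⟨d * s.fst, s.snd, by
    have h : τ d * d = 1 := by
      have h' := congrArg τ hd
      rw [map_mul, map_one] at h'
      linear_combination (τ c * τ d) * hd + h' - (τ d * d) * hc
    rw [map_mul]; linear_combination s.eq - (s.fst * τ s.fst) * h⟩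
  left_inv s := Pairs.ext (by show d * (c * s.fst) = s.fst; rw [← mul_assoc, mul_comm d, hd, one_mul]) rfl
  right_inv s := Pairs.ext (by show c * (d * s.fst) = s.fst; rw [← mul_assoc, hd, one_mul]) rfl
  map_mul' s t := Pairs.ext (mul_add c _ _) (by
    show s.snd + t.snd + τ s.fst * t.fst = s.snd + t.snd + τ (c * s.fst) * (c * t.fst)
    rw [map_mul]; linear_combination (-(τ s.fst * t.fst)) * hc)

theorem scale_pow (c d : GaloisField p a) (hc : τ c * c = 1) (hd : c * d = 1) (n : ℕ)
    (s : Pairs p a τ hτ) : ((scale c d hc hd ^ n) s).fst = c ^ n * s.fst ∧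
      ((scale c d hc hd ^ n) s).snd = s.snd := by
  induction n with
  | zero => simp
  | succ n ih =>
      rw [pow_succ', MulAut.mul_apply, pow_succ', mul_assoc, ← ih.1]
      exact ⟨rfl, ih.2⟩

end

end Pairs

theorem exists_dat (hpq : p ≠ q) (hr : 1 ≤ r) (ha : a = orderOf (p : ZMod q)) (h1 : ζ ^ q = 1)
    (h2 : ζ ≠ 1) :
    ∃ (G₀ : Type u) (_ : Group G₀) (_ : Finite G₀) (D : Dat q r ζ G₀),
      Nat.card D.P = p ^ (if a % 2 = 1 then a else 3 * a / 2) := by
  classical
  have ha0 := order_ne_zero hpq ha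
  have hz := zeta_ne_zero h1
  have hKc : Nat.card (GaloisField p a) = p ^ a := GaloisField.card p a ha0
  have hqr : ζ ^ q ^ r = 1 := by
    obtain ⟨s, rfl⟩ := Nat.exists_eq_add_of_le hr
    rw [pow_add, pow_one, pow_mul, h1, one_pow]
  by_cases hodd : a % 2 = 1
  · let σ : MulAut (Multiplicative (GaloisField p a)) :=
      { toFun := fun x => ofAdd (ζ * toAdd x)
        invFun := fun x => ofAdd (ζ⁻¹ * toAdd x)
        left_inv := fun x => by simp [hz]
        right_inv := fun x => by simp [hz]
        map_mul' := fun x y => by rw [toAdd_mul, mul_add, ofAdd_add] }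
    have hσn : ∀ (n : ℕ) x, (σ ^ n) x = ofAdd (ζ ^ n * toAdd x) := fun n x => by
      induction n with
      | zero => simp
      | succ n ih =>
          rw [pow_succ', MulAut.mul_apply, ih, pow_succ', mul_assoc]
          rfl
    obtain ⟨G₀, i₁, i₂, D, hD⟩ := exists_dat_of.{u} (p := p) (q := q) (r := r) (ζ := ζ)
      (IsPGroup.of_card (n := a) (by rw [Nat.card_congr Multiplicative.toAdd, hKc]))
      (MonoidHom.id (Multiplicative (GaloisField p a))) Function.surjective_id σ
      (MulEquiv.ext fun x => by rw [hσn, hqr, one_mul, ofAdd_toAdd, MulAut.one_apply])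
      (fun x => rfl)
      (fun x hx => ⟨by rw [show x = 1 from hx, map_one], fun y => mul_comm x y⟩)
      (fun W _ hall => eq_top_iff.2 fun x _ => by
        obtain ⟨w, hw, rfl⟩ := hall x
        exact hw)
    refine ⟨G₀, i₁, i₂, D, ?_⟩
    rw [hD, if_pos hodd, Nat.card_congr Multiplicative.toAdd, hKc]
  · have hb2 : a = 2 * (a / 2) := by omega
    obtain ⟨hττ, hcard0, hfix, hanti, -⟩ := card_trace (p := p) hb2 ha0
    set τ := iterateFrobenius (GaloisField p a) p (a / 2) with hτdef
    have hτζ : τ ζ * ζ = 1 := tau_zeta hpq ha hb2 h1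
    let y : GaloisField p a → GaloisField p a := fun x =>
      (hfix (x * τ x) (by rw [map_mul, hττ, mul_comm])).choose
    have hy : ∀ x, y x + τ (y x) = x * τ x := fun x =>
      (hfix (x * τ x) (by rw [map_mul, hττ, mul_comm])).choose_spec
    let eN : Pairs p a τ hττ ≃ GaloisField p a × {z : GaloisField p a // z + τ z = 0} :=
      { toFun := fun s => (s.fst, ⟨s.snd - y s.fst, by rw [map_sub]; linear_combination s.eq - hy s.fst⟩)
        invFun := fun t => ⟨t.1, t.2.1 + y t.1, by rw [map_add]; linear_combination t.2.2 + hy t.1⟩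
        left_inv := fun s => Pairs.ext rfl (sub_add_cancel _ _)
        right_inv := fun t => Prod.ext rfl (Subtype.ext (add_sub_cancel_right _ _)) }
    have hcard : Nat.card (Pairs p a τ hττ) = p ^ (3 * a / 2) := by
      rw [Nat.card_congr eN, Nat.card_prod, hKc, hcard0, ← pow_add]
      congr 1; omega
    obtain ⟨G₀, i₁, i₂, D, hD⟩ := exists_dat_of.{u} (p := p) (q := q) (r := r) (ζ := ζ)
      (IsPGroup.of_card hcard) (Pairs.proj (τ := τ) (hτ := hττ))
      (fun c => ⟨⟨toAdd c, y (toAdd c), hy _⟩, rfl⟩)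
      (Pairs.scale ζ ζ⁻¹ hτζ (mul_inv_cancel₀ hz))
      (MulEquiv.ext fun s => by
        obtain ⟨e1, e2⟩ := Pairs.scale_pow ζ ζ⁻¹ hτζ (mul_inv_cancel₀ hz) (q ^ r) s
        refine Pairs.ext ?_ (by rw [e2, MulAut.one_apply])
        rw [e1, hqr, one_mul, MulAut.one_apply])
      (fun s => rfl)
      (fun s hs => by
        have h0 : s.fst = 0 := ofAdd.injective hs
        exact ⟨Pairs.ext (show ζ * s.fst = s.fst by rw [h0, mul_zero]) rfl,
          fun t => Pairs.ext (add_comm _ _) (by simp [h0, add_comm])⟩)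
      (fun W _ hall => by
        refine eq_top_iff.2 fun s _ => ?_
        obtain ⟨t, ht, hts⟩ := hall (Pairs.proj s)
        have hts' : t.fst = s.fst := ofAdd.injective hts
        obtain ⟨u, hu, hu1⟩ := hall (ofAdd 1)
        have hu1' : u.fst = 1 := ofAdd.injective hu1
        obtain ⟨d, hd⟩ := hanti (s.snd - t.snd) (by
          rw [map_sub]; linear_combination s.eq - t.eq + (τ t.fst) * (-hts') +
            s.fst * (-congrArg τ hts'))
        obtain ⟨w, hw, hwd⟩ := hall (ofAdd d)
        have hwd' : w.fst = d := ofAdd.injective hwd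
        have key : s * (w * u) = t * (u * w) := by
          refine Pairs.ext ?_ ?_
          · simp only [Pairs.mul_fst, hts']; ring
          · simp only [Pairs.mul_snd, Pairs.mul_fst, hts', hu1', hwd', map_one]
            linear_combination (-1 : GaloisField p a) * hd
        rw [eq_mul_inv_of_mul_eq key]
        exact W.mul_mem (W.mul_mem ht (W.mul_mem hu hw)) (W.inv_mem (W.mul_mem hw hu)))
    refine ⟨G₀, i₁, i₂, D, ?_⟩
    rw [hD, if_neg hodd, hcard]

end Cfsg.Lib.USchmidt
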