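/-
The structure of an arbitrary minimal non-p-nilpotent group over the field.
-/
import Cfsg.Agent.SolvStruct.UniversalSchmidt.Dat
import Cfsg.Agent.SolvStruct.SchmidtPLength.Type

set_option autoImplicit false

namespace Cfsg.Lib.USchmidt

open Subgroup Polynomial Multiplicative
open scoped commutatorElement

universe u

variable {X : Type u} [Group X] [Finite X]

theorem setup {p q k : ℕ} [hp : Fact p.Prime] [hq : Fact q.Prime] (hqp : q ≠ p)
    (P : Subgroup X) [hPn : P.Normal] (hP : IsPGroup p P) (g : X) (hgo : orderOf g = q ^ k)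
    (htop : P ⊔ zpowers g = ⊤) (hgc : g ∉ centralizer (P : Set X))
    (hnil : ∀ H : Subgroup X, H ≠ ⊤ → Group.IsNilpotent H) :
    (∀ W : Subgroup P, W ≠ ⊤ → (∀ w ∈ W, MulAut.conjNormal g w ∈ W) → ∀ w ∈ W, MulAut.conjNormal g w = w) ∧
    (∀ c : P, MulAut.conjNormal g c = c → c ∈ center P) ∧
    (∀ x : P, (MulAut.conjNormal g ^ q : MulAut P) x = x) ∧
    (∀ a b : P, MulAut.conjNormal g ⁅a, b⁆ = ⁅a, b⁆) ∧ (¬ ∀ x : P, MulAut.conjNormal g x = x) := by
  classical
  have hpe : ∀ x ∈ P, ∃ i, orderOf x = p ^ i := fun x hx => by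
    obtain ⟨i, hi⟩ := IsPGroup.iff_orderOf.mp hP ⟨x, hx⟩
    exact ⟨i, by rw [← hi, Subgroup.orderOf_mk]⟩
  have hcopPg : ∀ x ∈ P, x ∈ zpowers g → x = 1 := fun x hx hxg => by
    obtain ⟨i, hi⟩ := hpe x hx
    have h1 := orderOf_dvd_of_mem_zpowers hxg
    rw [hi, hgo] at h1
    have h2 : p ^ i = 1 := Nat.eq_one_of_dvd_coprimes
      (Nat.Coprime.pow i k ((Nat.coprime_primes hp.out hq.out).2 hqp.symm)) dvd_rfl h1
    rw [← orderOf_eq_one_iff, hi, h2]
  -- F1
  have F1 : ∀ W : Subgroup X, W ≤ P → W ≠ P → (∀ w ∈ W, g * w * g⁻¹ ∈ W) → ∀ w ∈ W, g * w = w * g := by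
    intro W hWP hne hinv w hw
    have hgW : g ∈ normalizer (W : Set X) := mem_normalizer_fintype (fun x hx => hinv x hx)
    have hM : W ⊔ zpowers g ≠ ⊤ := by
      intro e
      refine hne (le_antisymm hWP fun x hx => ?_)
      obtain ⟨a, ha, b, hb, rfl⟩ : ∃ a ∈ W, ∃ b ∈ zpowers g, a * b = x := by
        have h1 : x ∈ ((W ⊔ zpowers g : Subgroup X) : Set X) := by rw [e]; exact mem_top x
        rw [sup_comm, coe_mul_of_left_le_normalizer_right _ _ (zpowers_le.2 hgW)] at h1
        obtain ⟨b, hb, a, ha, rfl⟩ := Set.mem_mul.1 h1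
        exact ⟨b * a * b⁻¹, (mem_normalizer_iff.1 (zpowers_le.2 hgW hb) a).1 ha, b, hb, by group⟩
      have hb1 : b = 1 := hcopPg b (by simpa using mul_mem (inv_mem (hWP ha)) hx) hb
      rw [hb1, mul_one]; exact ha
    haveI := hnil _ hM
    have h := Cfsg.Lib.SolvStruct.commute_of_coprime_of_nilpotent hqp
      (x := (⟨g, mem_sup_right (mem_zpowers g)⟩ : ↥(W ⊔ zpowers g))) (y := ⟨w, mem_sup_left hw⟩)
      ⟨k, by rw [Subgroup.orderOf_mk, hgo]⟩ (by simpa [Subgroup.orderOf_mk] using hpe w (hWP hw))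
    exact congrArg Subtype.val h.eq
  have hPne : ¬ ∀ x ∈ P, g * x = x * g := fun h => hgc (mem_centralizer_iff.2 fun x hx => (h x hx).symm)
  -- F2
  have hk0 : k ≠ 0 := fun e => hPne fun x _ => by
    rw [e, pow_zero, orderOf_eq_one_iff] at hgo
    simp [hgo]
  have F2 : ∀ x ∈ P, g ^ q * x * (g ^ q)⁻¹ = x := by
    intro x hx
    have hM : P ⊔ zpowers (g ^ q) ≠ ⊤ := by
      intro e
      have h1 : g ∈ ((P ⊔ zpowers (g ^ q) : Subgroup X) : Set X) := by rw [e]; exact mem_top g
      rw [Subgroup.normal_mul] at h1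
      obtain ⟨w, hw, b, hb, hwb⟩ := Set.mem_mul.1 h1
      obtain ⟨i, rfl⟩ := mem_zpowers_iff.1 hb
      have h2 : g * ((g ^ q) ^ i)⁻¹ = 1 := hcopPg _ (by rw [← eq_mul_inv_iff_mul_eq.2 hwb]; exact hw)
        (mul_mem (mem_zpowers g) (inv_mem (zpow_mem (pow_mem (mem_zpowers g) q) i)))
      have h3 : g ^ (1 - (q : ℤ) * i) = 1 := by
        rw [zpow_sub, zpow_one, zpow_mul, zpow_natCast]; exact h2
      rw [← orderOf_dvd_iff_zpow_eq_one, hgo] at h3
      have h4 : (q : ℤ) ∣ 1 := by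
        have h5 : (q : ℤ) ∣ 1 - (q : ℤ) * i :=
          (Int.natCast_dvd_natCast.2 (dvd_pow_self q hk0)).trans h3
        simpa using dvd_add h5 (dvd_mul_right (q : ℤ) i)
      exact hq.out.not_dvd_one (Int.natCast_dvd_natCast.1 h4)
    haveI := hnil _ hM
    obtain ⟨j, -, hj⟩ : ∃ j ≤ k, orderOf (g ^ q) = q ^ j :=
      (Nat.dvd_prime_pow hq.out).1 (hgo ▸ orderOf_pow_dvd q)
    have h := Cfsg.Lib.SolvStruct.commute_of_coprime_of_nilpotent hqp
      (x := (⟨g ^ q, mem_sup_right (mem_zpowers _)⟩ : ↥(P ⊔ zpowers (g ^ q)))) (y := ⟨x, mem_sup_left hx⟩)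
      ⟨j, by rw [Subgroup.orderOf_mk, hj]⟩ (by simpa [Subgroup.orderOf_mk] using hpe x hx)
    have h1 : g ^ q * x = x * g ^ q := congrArg Subtype.val h.eq
    rw [h1, mul_inv_cancel_right]
  -- the action on `P`
  let σ : MulAut P := MulAut.conjNormal g
  have hσ : ∀ x : P, (σ x : X) = g * x * g⁻¹ := fun x => MulAut.conjNormal_apply g x
  have hσq : ∀ x : P, (σ ^ q) x = x := fun x => by
    refine Subtype.ext ?_
    show ((MulAut.conjNormal g ^ q : MulAut P) x : X) = x
    rw [← map_pow, MulAut.conjNormal_apply]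
    exact F2 x x.2
  have hfixσ : ∀ x : P, σ x = x ↔ g * (x : X) = x * g := fun x => by
    rw [Subtype.ext_iff, hσ, mul_inv_eq_iff_eq_mul]
  have F1' : ∀ W : Subgroup P, W ≠ ⊤ → (∀ w ∈ W, σ w ∈ W) → ∀ w ∈ W, σ w = w := by
    intro W hW hinv w hw
    rw [hfixσ]
    refine F1 (W.map P.subtype) (map_subtype_le _) (fun e => hW ?_) ?_ _ ⟨w, hw, rfl⟩
    · exact map_injective P.subtype_injective (e.trans (by simp [← MonoidHom.range_eq_map]))
    · rintro _ ⟨a, ha, rfl⟩
      exact ⟨σ a, hinv a ha, hσ a⟩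
  have hPne' : ¬ ∀ x : P, σ x = x := fun h => hPne fun x hx => (hfixσ ⟨x, hx⟩).1 (h _)
  -- generators
  have hgen : closure (Set.range fun x : P => x⁻¹ * σ x) = ⊤ := by
    by_contra hne
    set T := closure (Set.range fun x : P => x⁻¹ * σ x)
    have hinv : ∀ w ∈ T, σ w ∈ T := fun w hw => by
      have h1 : T ≤ T.comap σ.toMonoidHom := (closure_le _).2 fun y ⟨x, hx⟩ => by
        refine subset_closure ⟨σ x, ?_⟩
        show (σ x)⁻¹ * σ (σ x) = σ y
        rw [← hx, map_mul, map_inv]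
      exact h1 hw
    have hfix := F1' T hne hinv
    refine hPne' fun x => ?_
    set t := x⁻¹ * σ x
    have ht : σ t = t := hfix t (subset_closure ⟨x, rfl⟩)
    have hn : ∀ n : ℕ, (σ ^ n) x = x * t ^ n := by
      intro n
      induction n with
      | zero => simp
      | succ n ih => rw [pow_succ', MulAut.mul_apply, ih, map_mul, map_pow, ht, pow_succ', ← mul_assoc,
          mul_inv_cancel_left]
    have h1 : t ^ q = 1 := by
      have h2 := hn q
      rw [hσq] at h2
      exact mul_left_cancel (a := x) (by rw [mul_one]; exact h2.symm)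
    obtain ⟨i, hi⟩ := IsPGroup.iff_orderOf.mp hP t
    have h3 := orderOf_dvd_of_pow_eq_one h1
    rw [hi] at h3
    have h4 : t = 1 := by
      rw [← orderOf_eq_one_iff, hi]
      exact Nat.eq_one_of_dvd_coprimes
        (Nat.Coprime.pow_left i ((Nat.coprime_primes hp.out hq.out).2 hqp.symm)) dvd_rfl h3
    exact (inv_mul_eq_one.1 h4).symm
  haveI : Nontrivial P := by
    rw [nontrivial_iff_ne_bot]
    intro e
    exact hPne fun x hx => by rw [e, mem_bot] at hx; simp [hx]
  haveI := hP.isNilpotent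
  -- commutators are fixed
  have hderiv : ∀ w ∈ commutator P, σ w = w := by
    refine F1' _ ?_ fun w hw => ?_
    · exact (Group.IsSolvable.commutator_lt_top_of_nontrivial P).ne
    · exact Subgroup.Characteristic.fixed (H := commutator P) inferInstance σ |>.ge hw
  have hcm : ∀ a b : P, ⁅a, b⁆ ∈ commutator P := fun a b =>
    commutator_mem_commutator (mem_top _) (mem_top _)
  have hfix_cen : ∀ c : P, σ c = c → c ∈ center P := by
    intro c hc
    have h : closure (Set.range fun x : P => x⁻¹ * σ x) ≤ centralizer ({c} : Set P) := by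
      refine (closure_le _).2 ?_
      rintro _ ⟨x, rfl⟩
      refine mem_centralizer_singleton_iff.2 ?_
      have h1 : ⁅c, σ x⁆ = ⁅c, x⁆ := by
        conv_lhs => rw [← hc]
        rw [← map_commutatorElement]
        exact hderiv _ (hcm c x)
      have h2 : σ x * c⁻¹ * (σ x)⁻¹ = x * c⁻¹ * x⁻¹ := by
        have h3 := congrArg (fun z => c⁻¹ * z) h1
        simpa [commutatorElement_def, mul_assoc] using h3
      have h4 : x⁻¹ * σ x * c⁻¹ = c⁻¹ * (x⁻¹ * σ x) := by
        calc x⁻¹ * σ x * c⁻¹ = x⁻¹ * (σ x * c⁻¹ * (σ x)⁻¹) * σ x := by group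
          _ = x⁻¹ * (x * c⁻¹ * x⁻¹) * σ x := by rw [h2]
          _ = c⁻¹ * (x⁻¹ * σ x) := by group
      calc x⁻¹ * σ x * c = c * (c⁻¹ * (x⁻¹ * σ x)) * c := by group
        _ = c * (x⁻¹ * σ x * c⁻¹) * c := by rw [h4]
        _ = c * (x⁻¹ * σ x) := by group
    rw [hgen] at h
    exact mem_center_iff.2 fun y => mem_centralizer_singleton_iff.1 (h (mem_top y))
  have hcc : ∀ a b : P, ⁅a, b⁆ ∈ center P := fun a b => hfix_cen _ (hderiv _ (hcm a b))
  exact ⟨F1', hfix_cen, hσq, fun a b => hderiv _ (hcm a b), hPne'⟩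

theorem aeval_end_zero_or {R A : Type*} [CommRing R] [AddCommGroup A] [Module R A] [Nontrivial A]
    (T : Module.End R A) {ι : Type*} (s : Finset ι) (m : ι → R[X]) (h : aeval T (∏ i ∈ s, m i) = 0) :
    ∃ i ∈ s, ∃ v ≠ 0, aeval T (m i) v = 0 := by
  classical
  induction s using Finset.induction_on with
  | empty =>
      exfalso
      obtain ⟨v, hv⟩ := exists_ne (0 : A)
      rw [Finset.prod_empty, map_one] at h
      exact hv (LinearMap.congr_fun h v)
  | insert i s hi ih =>
      by_cases hz : aeval T (∏ j ∈ s, m j) = 0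
      · obtain ⟨j, hj, hv⟩ := ih hz
        exact ⟨j, Finset.mem_insert_of_mem hj, hv⟩
      · obtain ⟨v, hv⟩ : ∃ v, aeval T (∏ j ∈ s, m j) v ≠ 0 := by
          by_contra hno
          push Not at hno
          exact hz (LinearMap.ext hno)
        refine ⟨i, Finset.mem_insert_self _ _, _, hv, ?_⟩
        rw [Finset.prod_insert hi, map_mul] at h
        exact LinearMap.congr_fun h v

theorem exists_field_iso {p q a : ℕ} [hp : Fact p.Prime] [hq : Fact q.Prime] {ζ : GaloisField p a}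
    (hpq : p ≠ q) (ha : a = orderOf (p : ZMod q)) (h1 : ζ ^ q = 1) (h2 : ζ ≠ 1)
    {A : Type*} [AddCommGroup A] [Module (ZMod p) A] [Nontrivial A] (T : Module.End (ZMod p) A)
    (hTq : T ^ q = 1) (hT1 : T ≠ 1)
    (hirr : ∀ S : AddSubgroup A, (∀ v ∈ S, T v ∈ S) → (∃ v ∈ S, v ≠ 0) → S = ⊤) :
    ∃ (i : ℕ) (_ : ¬ q ∣ i) (e : GaloisField p a ≃+ A), ∀ x, e (ζ ^ i * x) = T (e x) := by
  classical
  -- an eigenvalue
  let K := GaloisField p a
  have hprim : IsPrimitiveRoot ζ q := by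
    rw [← orderOf_zeta h1 h2]; exact IsPrimitiveRoot.orderOf ζ
  have halg : ∀ x : K, IsIntegral (ZMod p) x := fun x => IsIntegral.of_finite _ x
  have hprod : (X ^ q - 1 : (ZMod p)[X]) ∣ ∏ i ∈ Finset.range q, minpoly (ZMod p) (ζ ^ i) := by
    rw [← map_dvd_map' (algebraMap (ZMod p) K), Polynomial.map_sub, Polynomial.map_pow, map_X,
      Polynomial.map_one, Polynomial.map_prod]
    have h := X_pow_sub_C_eq_prod hprim (α := 1) hq.out.pos (one_pow _)
    rw [map_one] at h
    rw [h]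
    refine Finset.prod_dvd_prod_of_dvd _ _ fun i _ => ?_
    rw [mul_one, dvd_iff_isRoot, IsRoot.def, eval_map_algebraMap, minpoly.aeval]
  have hzero : aeval T (∏ i ∈ Finset.range q, minpoly (ZMod p) (ζ ^ i)) = 0 := by
    obtain ⟨c, hc⟩ := hprod
    rw [hc, map_mul, map_sub, map_pow, aeval_X, map_one, hTq, sub_self, zero_mul]
  obtain ⟨i, hi, v₀, hv₀, hker⟩ := aeval_end_zero_or T _ _ hzero
  have hall : ∀ v, aeval T (minpoly (ZMod p) (ζ ^ i)) v = 0 := by
    intro v
    have h := hirr (aeval T (minpoly (ZMod p) (ζ ^ i))).toAddMonoidHom.ker (fun w hw => by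
      show aeval T (minpoly (ZMod p) (ζ ^ i)) (T w) = 0
      rw [← Module.End.mul_apply, show aeval T (minpoly (ZMod p) (ζ ^ i)) * T =
        T * aeval T (minpoly (ZMod p) (ζ ^ i)) by
          have hc := ((Commute.all (minpoly (ZMod p) (ζ ^ i)) Polynomial.X).map (aeval T)).eq
          rwa [aeval_X] at hc, Module.End.mul_apply, show aeval T _ w = 0 from hw, map_zero])
      ⟨v₀, hker, hv₀⟩
    exact h.ge (AddSubgroup.mem_top v)
  have hi0 : i ≠ 0 := by
    rintro rfl
    refine hT1 (LinearMap.ext fun v => ?_)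
    have h := hall v
    rwa [pow_zero, minpoly.one, map_sub, aeval_X, map_one, LinearMap.sub_apply, sub_eq_zero] at h
  have hqi : ¬ q ∣ i := fun h => by
    rw [Finset.mem_range] at hi
    exact absurd (Nat.le_of_dvd (Nat.pos_of_ne_zero hi0) h) (by omega)
  obtain ⟨η, hη⟩ : ∃ η, η = ζ ^ i := ⟨_, rfl⟩
  rw [← hη] at hall
  have hη1 : η ^ q = 1 := by rw [hη, ← pow_mul, mul_comm, pow_mul, h1, one_pow]
  have hη2 : η ≠ 1 := fun h => hqi (by
    rw [← orderOf_zeta h1 h2]; exact orderOf_dvd_of_pow_eq_one (hη.symm.trans h))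
  -- the comparison with the field
  choose lift hlift using fun x => zeta_gen hpq ha hη1 hη2 x
  have hwd : ∀ f : (ZMod p)[X], ∀ x, aeval η f = x → aeval T (lift x) v₀ = aeval T f v₀ := by
    intro f x hf
    obtain ⟨c, hc⟩ := minpoly.dvd (ZMod p) η (p := lift x - f) (by rw [map_sub, hlift, hf, sub_self])
    rw [← sub_eq_zero, ← LinearMap.sub_apply, ← map_sub, hc, map_mul, Module.End.mul_apply, hall]
  let θ : K →+ A := AddMonoidHom.mk' (fun x => aeval T (lift x) v₀) fun x y => by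
    show aeval T (lift (x + y)) v₀ = aeval T (lift x) v₀ + aeval T (lift y) v₀
    rw [hwd (lift x + lift y) _ (by rw [map_add, hlift, hlift]), map_add, LinearMap.add_apply]
  have hθη : ∀ x, θ (η * x) = T (θ x) := fun x => by
    show aeval T (lift (η * x)) v₀ = _
    rw [hwd (Polynomial.X * lift x) _ (by rw [map_mul, aeval_X, hlift]), map_mul, aeval_X,
      Module.End.mul_apply]
    rfl
  have hθ1 : θ 1 = v₀ := by
    show aeval T (lift 1) v₀ = v₀
    rw [hwd 1 1 (map_one _), map_one, Module.End.one_apply]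
  have hθ : Function.Bijective θ := by
    refine ⟨(injective_iff_map_eq_zero θ).2 fun x hx => ?_, fun v => ?_⟩
    · by_contra hx0
      have h := invariant_top hpq ha hη1 hη2 θ.ker (fun w hw => by
        show θ (η * w) = 0
        rw [hθη, show θ w = 0 from hw, map_zero]) ⟨x, hx, hx0⟩
      exact hv₀ (hθ1.symm.trans (h.ge (AddSubgroup.mem_top 1)))
    · exact (hirr θ.range (fun w ⟨x, hx⟩ => ⟨η * x, by rw [hθη, hx]⟩) ⟨v₀, ⟨1, hθ1⟩, hv₀⟩).ge
        (AddSubgroup.mem_top v)
  exact ⟨i, hqi, AddEquiv.ofBijective θ hθ, fun x => hη ▸ hθη x⟩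

theorem exists_field_iso' {p q a : ℕ} [hp : Fact p.Prime] [hq : Fact q.Prime] {ζ : GaloisField p a}
    (hpq : p ≠ q) (ha : a = orderOf (p : ZMod q)) (h1 : ζ ^ q = 1) (h2 : ζ ≠ 1)
    {A : Type*} [AddCommGroup A] [Nontrivial A] (hexp : ∀ v : A, p • v = 0) (s : A →+ A)
    (hsq : ∀ v, (s : A → A)^[q] v = v) (hs1 : ¬ ∀ v, s v = v)
    (hirr : ∀ S : AddSubgroup A, (∀ v ∈ S, s v ∈ S) → (∃ v ∈ S, v ≠ 0) → S = ⊤) :
    ∃ (i : ℕ) (_ : ¬ q ∣ i) (e : GaloisField p a ≃+ A), ∀ x, e (ζ ^ i * x) = s (e x) := by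
  letI : Module (ZMod p) A := AddCommGroup.zmodModule hexp
  refine exists_field_iso hpq ha h1 h2 (s.toZModLinearMap p) (LinearMap.ext fun v => ?_)
    (fun h => hs1 fun v => LinearMap.congr_fun h v) hirr
  rw [Module.End.coe_pow]
  exact hsq v

theorem exists_dat_of_minimal {p q a r t : ℕ} [hp : Fact p.Prime] [hq : Fact q.Prime]
    {ζ : GaloisField p a} (hpq : p ≠ q) (hr : 1 ≤ r) (ha : a = orderOf (p : ZMod q)) (h1 : ζ ^ q = 1)
    (h2 : ζ ≠ 1) (hX1 : ¬ Cfsg.HasNormalPComplement p X)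
    (hX2 : ∀ H : Subgroup X, H ≠ ⊤ → Cfsg.HasNormalPComplement p H)
    (hcard : Nat.card X = p ^ t * q ^ r) : Nonempty (Dat q r ζ X) := by
  classical
  obtain ⟨P, g, q', k, hPn, hq', hq'p, hgo, hgc, htop⟩ := Cfsg.Lib.Schmidt.exists_structure hX1 hX2
  haveI := hPn
  obtain ⟨hnil, -, -⟩ := Cfsg.Lib.Schmidt.minimal_non_p_nilpotent hX1 hX2
  -- the prime and the exponent
  obtain ⟨n, hn⟩ := P.2.exists_card_eq
  have hk0 : k ≠ 0 := fun e => hgc (by
    rw [e, pow_zero, orderOf_eq_one_iff] at hgo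
    rw [hgo]; exact one_mem _)
  have hdvd : q' ^ k ∣ p ^ t * q ^ r := by rw [← hgo, ← hcard]; exact orderOf_dvd_natCard g
  obtain rfl : q' = q := by
    rcases hq'.dvd_mul.1 ((dvd_pow_self q' hk0).trans hdvd) with h | h
    · exact absurd ((Nat.prime_dvd_prime_iff_eq hq' hp.out).1 (hq'.dvd_of_dvd_pow h)) hq'p
    · exact (Nat.prime_dvd_prime_iff_eq hq' hq.out).1 (hq'.dvd_of_dvd_pow h)
  obtain rfl : k = r := by
    refine le_antisymm ((Nat.pow_dvd_pow_iff_le_right hq.out.one_lt).1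
      ((Nat.Coprime.pow k t ((Nat.coprime_primes hq.out hp.out).2 hq'p)).dvd_of_dvd_mul_left hdvd)) ?_
    have h : Nat.card X ∣ Nat.card (P : Subgroup X) * q' ^ k := by
      rw [← (P : Subgroup X).card_mul_index]
      refine Nat.mul_dvd_mul_left _ ?_
      rw [← hgo, ← Nat.card_zpowers, ← relIndex_top_right, ← htop, sup_comm, relIndex_sup_right]
      exact relIndex_dvd_card _ _
    rw [hcard, hn] at h
    exact (Nat.pow_dvd_pow_iff_le_right hq.out.one_lt).1
      ((Nat.Coprime.pow r n ((Nat.coprime_primes hq.out hp.out).2 hq'p)).dvd_of_dvd_mul_left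
        ((Dvd.intro_left _ rfl).trans h))
  obtain ⟨F1, hfix, hσq, hcomm, hne⟩ := setup hq'p (P : Subgroup X) P.2 g hgo htop hgc hnil
  obtain ⟨σ, hσ⟩ : ∃ σ : MulAut (P : Subgroup X), σ = MulAut.conjNormal g := ⟨_, rfl⟩
  rw [← hσ] at F1 hfix hσq hcomm hne
  have hσc : ∀ x : (P : Subgroup X), (σ x : X) = g * x * g⁻¹ := fun x => by
    rw [hσ, MulAut.conjNormal_apply]
  -- the fixed points
  let Z : Subgroup (P : Subgroup X) :=
    { carrier := {x | σ x = x}
      mul_mem' := fun {x y} hx hy => show σ (x * y) = x * y by rw [map_mul, hx, hy]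
      one_mem' := map_one σ
      inv_mem' := fun {x} hx => show σ x⁻¹ = x⁻¹ by rw [map_inv, hx] }
  have hmax : ∀ W : Subgroup (P : Subgroup X), (∀ w ∈ W, σ w ∈ W) → W ≤ Z ∨ W = ⊤ := fun W hW => by
    by_cases h : W = ⊤
    · exact Or.inr h
    · exact Or.inl fun w hw => F1 W h hW w hw
  haveI hZn : Z.Normal := ⟨fun z hz x => by
    rw [mem_center_iff.1 (hfix z hz) x, mul_inv_cancel_right]
    exact hz⟩
  let V := (P : Subgroup X) ⧸ Z
  let mk : (P : Subgroup X) →* V := QuotientGroup.mk' Z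
  have hmk : ∀ x, mk x = 1 ↔ x ∈ Z := fun x => QuotientGroup.eq_one_iff x
  have hVc : ∀ u v : V, u * v = v * u := fun u v => by
    obtain ⟨x, rfl⟩ := QuotientGroup.mk'_surjective Z u
    obtain ⟨y, rfl⟩ := QuotientGroup.mk'_surjective Z v
    rw [← commutatorElement_eq_one_iff_mul_comm, ← map_commutatorElement]
    exact (hmk _).2 (hcomm x y)
  letI : CommGroup V := { (inferInstance : Group V) with mul_comm := hVc }
  haveI : Nontrivial V := by
    by_contra hnt
    rw [not_nontrivial_iff_subsingleton] at hnt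
    exact hne fun x => (hmk x).1 (Subsingleton.elim _ _)
  have hV : IsPGroup p V := P.2.to_quotient Z
  have hexp : ∀ v : V, v ^ p = 1 := by
    let f : V →* V := powMonoidHom p
    rcases hmax (f.range.comap mk) (fun w hw => by
      obtain ⟨v, hv⟩ := hw
      obtain ⟨x, rfl⟩ := QuotientGroup.mk'_surjective Z v
      refine ⟨mk (σ x), ?_⟩
      have h : (x ^ p)⁻¹ * w ∈ Z := (hmk _).1 (by
        rw [map_mul, map_inv, map_pow]; exact inv_mul_eq_one.2 hv)
      show mk (σ x) ^ p = mk (σ w)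
      rw [← map_pow, ← map_pow, ← inv_mul_eq_one, ← map_inv, ← map_mul, ← map_inv, ← map_mul,
        show σ ((x ^ p)⁻¹ * w) = (x ^ p)⁻¹ * w from h]
      exact (hmk _).2 h) with h | h
    · intro v
      obtain ⟨x, rfl⟩ := QuotientGroup.mk'_surjective Z v
      rw [← map_pow]
      exact (hmk _).2 (h ⟨mk x, by rw [map_pow]; rfl⟩)
    · exfalso
      have hsurj : Function.Surjective f := fun v => by
        obtain ⟨x, rfl⟩ := QuotientGroup.mk'_surjective Z v
        exact h.ge (mem_top x)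
      obtain ⟨v, hv⟩ := exists_prime_orderOf_dvd_card' (G := V) p (by
        obtain ⟨j, hj⟩ := hV.exists_card_eq
        rw [hj]
        exact dvd_pow_self p fun e => (Finite.one_lt_card (α := V)).ne' (by rw [hj, e, pow_zero]))
      have h3 : v = 1 := (Finite.injective_iff_surjective.2 hsurj) (by
        show v ^ p = 1 ^ p
        rw [one_pow]; exact orderOf_dvd_iff_pow_eq_one.1 hv.dvd)
      rw [h3, orderOf_one] at hv
      exact hp.out.one_lt.ne hv
  -- the module
  have hexp' : ∀ v : Additive V, p • v = 0 := fun v => Additive.toMul.injective (by rw [toMul_nsmul]; exact hexp v.toMul)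
  have hZσ : Z ≤ Z.comap σ.toMonoidHom := fun z hz => show σ (σ z) = σ z by rw [show σ z = z from hz, show σ z = z from hz]
  obtain ⟨σb, hσb⟩ : ∃ σb : V →* V, ∀ x, σb (mk x) = mk (σ x) :=
    ⟨QuotientGroup.map Z Z σ.toMonoidHom hZσ, fun x => rfl⟩
  obtain ⟨T, hT⟩ : ∃ T : Additive V →+ Additive V, ∀ x, T (Additive.ofMul (mk x)) = Additive.ofMul (mk (σ x)) :=
    ⟨MonoidHom.toAdditive σb, fun x => congrArg Additive.ofMul (hσb x)⟩
  have hTn : ∀ (i : ℕ) x, (T : Additive V → Additive V)^[i] (Additive.ofMul (mk x)) = Additive.ofMul (mk ((σ ^ i) x)) := fun i x => by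
    induction i with
    | zero => rfl
    | succ i ih => rw [Function.iterate_succ_apply', ih, hT, pow_succ', MulAut.mul_apply]
  have hirr : ∀ S : AddSubgroup (Additive V), (∀ v ∈ S, T v ∈ S) → (∃ v ∈ S, v ≠ 0) → S = ⊤ := by
    intro S hS ⟨v, hv, hv0⟩
    rcases hmax (S.toSubgroup'.comap mk) (fun w hw => by
      show Additive.ofMul (mk (σ w)) ∈ S
      rw [← hT]
      exact hS _ hw) with h | h
    · exfalso
      obtain ⟨x, hx⟩ := QuotientGroup.mk'_surjective Z v.toMul
      apply hv0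
      have hxS : x ∈ S.toSubgroup'.comap mk := by
        show Additive.ofMul (mk x) ∈ S
        rw [show mk x = v.toMul from hx]; exact hv
      exact Additive.toMul.injective (hx.symm.trans ((hmk x).2 (h hxS)))
    · refine eq_top_iff.2 fun w _ => ?_
      obtain ⟨x, hx⟩ := QuotientGroup.mk'_surjective Z w.toMul
      have := h.ge (mem_top x)
      change Additive.ofMul (mk x) ∈ S at this
      rwa [show mk x = w.toMul from hx] at this
  have hTq : ∀ v, (T : Additive V → Additive V)^[q'] v = v := fun v => by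
    obtain ⟨x, hx⟩ := QuotientGroup.mk'_surjective Z v.toMul
    rw [show v = Additive.ofMul (mk x) from hx.symm, hTn, hσq]
  have hT1 : ¬ ∀ v, T v = v := fun h => hne fun x => by
    have h' : Additive.ofMul (mk (σ x)) = Additive.ofMul (mk x) := by rw [← hT, h]
    have h'' : x⁻¹ * σ x ∈ Z := (hmk _).1 (by
      rw [map_mul, map_inv, Additive.ofMul.injective h', inv_mul_cancel])
    by_contra hx
    have hiter : ∀ n : ℕ, (σ ^ n) x = x * (x⁻¹ * σ x) ^ n := fun n => by
      induction n with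
      | zero => simp
      | succ n ih =>
          rw [pow_succ', MulAut.mul_apply, ih, map_mul, map_pow, show σ (x⁻¹ * σ x) = _ from h'',
            pow_succ', ← mul_assoc x, mul_inv_cancel_left]
    have h5 : (x⁻¹ * σ x) ^ q' = 1 := by
      have h6 := hiter q'
      rw [hσq] at h6
      exact mul_left_cancel (a := x) (by rw [mul_one]; exact h6.symm)
    obtain ⟨j, hj⟩ := IsPGroup.iff_orderOf.mp P.2 (x⁻¹ * σ x)
    have h7 := orderOf_dvd_of_pow_eq_one h5
    rw [hj] at h7
    have h8 : x⁻¹ * σ x = 1 := by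
      rw [← orderOf_eq_one_iff, hj]
      exact Nat.eq_one_of_dvd_coprimes
        (Nat.Coprime.pow_left j ((Nat.coprime_primes hp.out hq.out).2 hpq)) dvd_rfl h7
    exact hx (inv_mul_eq_one.1 h8).symm
  let K := GaloisField p a
  obtain ⟨i, hqi, e, heη⟩ := exists_field_iso' hpq ha h1 h2 hexp' T hTq hT1 hirr
  obtain ⟨η, hη⟩ : ∃ η, η = ζ ^ i := ⟨_, rfl⟩
  rw [← hη] at heη
  let π : (P : Subgroup X) →* Multiplicative K :=
    MonoidHom.mk' (fun x => ofAdd (e.symm (Additive.ofMul (mk x)))) fun x y => by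
      rw [map_mul, ofMul_mul, map_add, ofAdd_add]
  have hπ : ∀ x, π x = 1 ↔ x ∈ Z := fun x => by
    rw [← hmk]
    show ofAdd (e.symm (Additive.ofMul (mk x))) = 1 ↔ _
    rw [ofAdd_eq_one, EmbeddingLike.map_eq_zero_iff, ofMul_eq_zero]
  have D : Dat q' k η X :=
    { P := P
      normal := hPn
      isP := P.2
      g := g
      ord := hgo
      sup_eq := htop
      π := π
      surj := fun c => by
        obtain ⟨x, hx⟩ := QuotientGroup.mk'_surjective Z (e (toAdd c)).toMul
        refine ⟨x, ?_⟩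
        show ofAdd (e.symm (Additive.ofMul (mk x))) = c
        rw [show mk x = (e (toAdd c)).toMul from hx, ofMul_toMul, AddEquiv.symm_apply_apply, ofAdd_toAdd]
      act := fun x => by
        rw [show (⟨g * x * g⁻¹, hPn.conj_mem x x.2 g⟩ : (P : Subgroup X)) = σ x from Subtype.ext (hσc x).symm]
        show e.symm (Additive.ofMul (mk (σ x))) = η * e.symm (Additive.ofMul (mk x))
        apply e.injective
        rw [AddEquiv.apply_symm_apply]
        rw [heη, ← hT]
        exact congrArg T (e.apply_symm_apply _).symm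
      ker_prop := fun x hx => by
        have hxZ := (hπ x).1 hx
        exact ⟨by rw [← hσc, show σ x = x from hxZ], fun y => (mem_center_iff.1 (hfix x hxZ) y).symm⟩
      irr := fun W hWP hinv hsurj => by
        rcases hmax (W.subgroupOf (P : Subgroup X)) (fun w hw => by
          show (σ w : X) ∈ W
          rw [hσc]; exact hinv _ hw) with h | h
        · exfalso
          obtain ⟨x, hxW, hx⟩ := hsurj (ofAdd 1)
          have h' := (hπ x).2 (h hxW)
          rw [h', eq_comm, ofAdd_eq_one] at hx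
          exact one_ne_zero hx
        · exact le_antisymm hWP (subgroupOf_eq_top.1 h) }
  obtain ⟨j, -, hj⟩ := Nat.exists_mul_mod_eq_one_of_coprime
    (k := q') (n := i) ((hq.out.coprime_iff_not_dvd.2 hqi).symm) hq.out.one_lt
  have hji : η ^ j = ζ := by
    rw [hη, ← pow_mul, pow_eq_pow_mod _ h1, hj, pow_one]
  exact ⟨hji ▸ D.pow j (fun h => by
    have h' : q' ∣ i * j := h.mul_left i
    rw [Nat.dvd_iff_mod_eq_zero, hj] at h'
    exact one_ne_zero h')⟩

end Cfsg.Lib.USchmidt
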