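/-
Every minimal non-p-nilpotent group with the given q-part is a central quotient of the universal one.
-/
import Cfsg.Agent.SolvStruct.UniversalSchmidt.Bound
import Cfsg.Agent.SolvStruct.UniversalSchmidt.Build
import Cfsg.Agent.SolvStruct.UniversalSchmidt.FromX

set_option autoImplicit false

namespace Cfsg.Lib.USchmidt

open Subgroup Multiplicative

universe u

variable {p q a r : ℕ} [hp : Fact p.Prime] [hq : Fact q.Prime] {ζ : GaloisField p a}

theorem exists_central_quotient {G X : Type u} [Group G] [Finite G] [Group X] [Finite X] (hpq : p ≠ q)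
    (ha : a = orderOf (p : ZMod q)) (h1 : ζ ^ q = 1) (h2 : ζ ≠ 1) (D : Dat q r ζ G) (E : Dat q r ζ X)
    (hD : Nat.card D.P = p ^ (if a % 2 = 1 then a else 3 * a / 2)) :
    ∃ φ : G →* X, Function.Surjective φ ∧ φ.ker ≤ center G := by
  classical
  haveI := D.normal
  haveI := E.normal
  let γ : G × X := (D.g, E.g)
  let Ok : Subgroup (G × X) → Prop := fun U =>
    (∀ w ∈ U, ∃ (h1 : w.1 ∈ D.P) (h2 : w.2 ∈ E.P), D.π ⟨w.1, h1⟩ = E.π ⟨w.2, h2⟩) ∧
    (∀ w ∈ U, γ * w * γ⁻¹ ∈ U) ∧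
    ∀ c, ∃ w ∈ U, ∃ h1 : w.1 ∈ D.P, D.π ⟨w.1, h1⟩ = c
  let M : Subgroup (G × X) :=
    { carrier := {w | ∃ (h1 : w.1 ∈ D.P) (h2 : w.2 ∈ E.P), D.π ⟨w.1, h1⟩ = E.π ⟨w.2, h2⟩}
      mul_mem' := by
        rintro v w ⟨hv1, hv2, hv⟩ ⟨hw1, hw2, hw⟩
        refine ⟨D.P.mul_mem hv1 hw1, E.P.mul_mem hv2 hw2, ?_⟩
        show D.π (⟨_, hv1⟩ * ⟨_, hw1⟩) = E.π (⟨_, hv2⟩ * ⟨_, hw2⟩)
        rw [map_mul, map_mul, hv, hw]
      one_mem' := ⟨D.P.one_mem, E.P.one_mem, (map_one D.π).trans (map_one E.π).symm⟩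
      inv_mem' := by
        rintro v ⟨hv1, hv2, hv⟩
        refine ⟨D.P.inv_mem hv1, E.P.inv_mem hv2, ?_⟩
        show D.π (⟨_, hv1⟩⁻¹) = E.π (⟨_, hv2⟩⁻¹)
        rw [map_inv, map_inv, hv] }
  have hM : Ok M := by
    refine ⟨fun w hw => hw, fun w ⟨hw1, hw2, hw⟩ => ?_, fun c => ?_⟩
    · refine ⟨D.normal.conj_mem _ hw1 _, E.normal.conj_mem _ hw2 _, toAdd.injective ?_⟩
      exact ((D.act ⟨_, hw1⟩).trans (by rw [hw])).trans (E.act ⟨_, hw2⟩).symm
    · obtain ⟨x, hx⟩ := D.surj c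
      obtain ⟨y, hy⟩ := E.surj c
      exact ⟨((x : G), (y : X)), ⟨x.2, y.2, hx.trans hy.symm⟩, x.2, hx⟩
  haveI : Finite (Subgroup (G × X)) := inferInstance
  obtain ⟨U, ⟨hUM, hUinv, hUsurj⟩, hUmin⟩ : ∃ U, Ok U ∧ ∀ V, Ok V → V ≤ U → U ≤ V := by
    obtain ⟨U, hU, hmin⟩ :=
      Set.Finite.exists_minimal (Set.toFinite {U : Subgroup (G × X) | Ok U}) ⟨M, hM⟩
    exact ⟨U, hU, fun V hV hle => hmin hV hle⟩
  -- the images of `U`
  have hfst : U.map (MonoidHom.fst G X) = D.P := by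
    refine D.irr _ ?_ ?_ fun c => ?_
    · rintro _ ⟨w, hw, rfl⟩
      exact (hUM w hw).1
    · rintro _ ⟨w, hw, rfl⟩
      exact ⟨γ * w * γ⁻¹, hUinv w hw, rfl⟩
    · obtain ⟨w, hw, h, hc⟩ := hUsurj c
      exact ⟨⟨w.1, h⟩, ⟨w, hw, rfl⟩, hc⟩
  have hsnd : U.map (MonoidHom.snd G X) = E.P := by
    refine E.irr _ ?_ ?_ fun c => ?_
    · rintro _ ⟨w, hw, rfl⟩
      exact (hUM w hw).2.1
    · rintro _ ⟨w, hw, rfl⟩
      exact ⟨γ * w * γ⁻¹, hUinv w hw, rfl⟩
    · obtain ⟨w, hw, h, hc⟩ := hUsurj c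
      obtain ⟨h1', h2', he⟩ := hUM w hw
      exact ⟨⟨w.2, h2'⟩, ⟨w, hw, rfl⟩, he.symm.trans hc⟩
  -- the diagonal group
  let H : Subgroup (G × X) := U ⊔ zpowers γ
  have hUn : γ ∈ normalizer (U : Set (G × X)) := mem_normalizer_fintype fun w hw => hUinv w hw
  haveI hnorm : (U.subgroupOf H).Normal :=
    normal_subgroupOf_iff_le_normalizer le_sup_left |>.2 (sup_le le_normalizer (zpowers_le.2 hUn))
  let gH : H := ⟨γ, mem_sup_right (mem_zpowers γ)⟩
  have hmem : ∀ x : U.subgroupOf H, ((x : H) : G × X) ∈ U := fun x => x.2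
  let π : U.subgroupOf H →* Multiplicative (GaloisField p a) :=
    MonoidHom.mk' (fun x => D.π ⟨((x : H) : G × X).1, (hUM _ (hmem x)).1⟩) fun x y => by
      rw [← map_mul]; rfl
  have hπE : ∀ x : U.subgroupOf H, π x = E.π ⟨((x : H) : G × X).2, (hUM _ (hmem x)).2.1⟩ := fun x =>
    (hUM _ (hmem x)).2.2
  have hisP : IsPGroup p (U.subgroupOf H) := by
    intro x
    obtain ⟨i, hi⟩ := D.isP ⟨_, (hUM _ (hmem x)).1⟩
    obtain ⟨j, hj⟩ := E.isP ⟨_, (hUM _ (hmem x)).2.1⟩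
    refine ⟨i + j, Subtype.ext (Subtype.ext (Prod.ext ?_ ?_))⟩
    · show (((x : H) : G × X).1) ^ p ^ (i + j) = 1
      have hi' : (((x : H) : G × X).1) ^ p ^ i = 1 := congrArg Subtype.val hi
      rw [pow_add, pow_mul, hi', one_pow]
    · show (((x : H) : G × X).2) ^ p ^ (i + j) = 1
      have hj' : (((x : H) : G × X).2) ^ p ^ j = 1 := congrArg Subtype.val hj
      rw [pow_add, mul_comm, pow_mul, hj', one_pow]
  let F : Dat q r ζ H :=
    { P := U.subgroupOf H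
      normal := hnorm
      isP := hisP
      g := gH
      ord := by
        rw [← Subgroup.orderOf_coe]
        show orderOf (D.g, E.g) = _
        rw [Prod.orderOf_mk, D.ord, E.ord, Nat.lcm_self]
      sup_eq := by
        refine (map_injective H.subtype_injective) ?_
        rw [Subgroup.map_sup, subgroupOf_map_subtype, MonoidHom.map_zpowers, ← MonoidHom.range_eq_map,
          H.range_subtype, inf_eq_left.2 le_sup_left]
        rfl
      π := π
      surj := fun c => by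
        obtain ⟨w, hw, h, hc⟩ := hUsurj c
        exact ⟨⟨⟨w, mem_sup_left hw⟩, hw⟩, hc⟩
      act := fun x => D.act ⟨_, (hUM _ (hmem x)).1⟩
      ker_prop := fun x hx => by
        obtain ⟨a1, b1⟩ := D.ker_prop ⟨_, (hUM _ (hmem x)).1⟩ hx
        obtain ⟨a2, b2⟩ := E.ker_prop ⟨_, (hUM _ (hmem x)).2.1⟩ ((hπE x).symm.trans hx)
        refine ⟨Subtype.ext (Prod.ext a1 a2), fun y => Subtype.ext (Subtype.ext (Prod.ext ?_ ?_))⟩
        · exact congrArg Subtype.val (b1 ⟨_, (hUM _ (hmem y)).1⟩)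
        · exact congrArg Subtype.val (b2 ⟨_, (hUM _ (hmem y)).2.1⟩)
      irr := fun W hW hinv hsurj => by
        refine le_antisymm hW fun x hx => ?_
        have hV : Ok (W.map H.subtype) := by
          refine ⟨?_, ?_, fun c => ?_⟩
          · rintro _ ⟨w, hw, rfl⟩
            exact hUM _ (hW hw)
          · rintro _ ⟨w, hw, rfl⟩
            exact ⟨gH * w * gH⁻¹, hinv w hw, rfl⟩
          · obtain ⟨y, hy, hc⟩ := hsurj c
            exact ⟨_, ⟨_, hy, rfl⟩, (hUM _ (hmem y)).1, hc⟩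
        obtain ⟨w, hw, hwx⟩ := hUmin _ hV (by rintro _ ⟨w, hw, rfl⟩; exact hW hw) (show (x : G × X) ∈ U from hx)
        rwa [← Subtype.ext hwx] }
  -- the first projection is bijective
  have hU : Nat.card U = Nat.card D.P := by
    refine le_antisymm ?_ ?_
    · rw [hD, ← Nat.card_congr (subgroupOfEquivOfLe (le_sup_left : U ≤ H)).toEquiv]
      exact F.card_le hpq ha h1 h2
    · rw [← hfst]
      exact Nat.le_of_dvd Nat.card_pos (card_map_dvd U _)
  let ψ : H →* G := (MonoidHom.fst G X).comp H.subtype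
  have hψs : Function.Surjective ψ := by
    rw [← MonoidHom.range_eq_top, eq_top_iff, ← D.sup_eq]
    refine sup_le (fun x hx => ?_) (zpowers_le.2 ⟨gH, rfl⟩)
    obtain ⟨w, hw, rfl⟩ := hfst.ge hx
    exact ⟨⟨w, mem_sup_left hw⟩, rfl⟩
  have hcard : Nat.card H = Nat.card G := by
    rw [F.card_eq hpq, D.card_eq hpq, ← hU]
    congr 1
    exact Nat.card_congr (subgroupOfEquivOfLe (le_sup_left : U ≤ H)).toEquiv
  have hψ : Function.Bijective ψ := Nat.bijective_iff_surjective_and_card ψ |>.2 ⟨hψs, hcard⟩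
  let e : H ≃* G := MulEquiv.ofBijective ψ hψ
  let φ : G →* X := ((MonoidHom.snd G X).comp H.subtype).comp e.symm.toMonoidHom
  refine ⟨φ, ?_, fun k hk => ?_⟩
  · have hs : Function.Surjective ((MonoidHom.snd G X).comp H.subtype) := by
      rw [← MonoidHom.range_eq_top, eq_top_iff, ← E.sup_eq]
      refine sup_le (fun x hx => ?_) (zpowers_le.2 ⟨gH, rfl⟩)
      obtain ⟨w, hw, rfl⟩ := hsnd.ge hx
      exact ⟨⟨w, mem_sup_left hw⟩, rfl⟩
    exact hs.comp e.symm.surjective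
  · obtain ⟨w, rfl⟩ := e.surjective k
    have hw2 : (w : G × X).2 = 1 := by
      have h : ((e.symm (e w) : H) : G × X).2 = 1 := hk
      rwa [e.symm_apply_apply] at h
    haveI := F.normal
    obtain ⟨x, hx, z, hz, hxz⟩ : ∃ x ∈ F.P, ∃ z ∈ zpowers gH, x * z = w := by
      have h : w ∈ ((F.P ⊔ zpowers F.g : Subgroup H) : Set H) := by rw [F.sup_eq]; exact mem_top _
      rw [Subgroup.normal_mul] at h
      exact Set.mem_mul.1 h
    obtain ⟨m, rfl⟩ := mem_zpowers_iff.1 hz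
    have hx' : (x : G × X) ∈ U := hx
    have hgm : E.g ^ m = 1 := by
      refine E.inter_eq_one hpq ?_ (zpow_mem (mem_zpowers _) m)
      have h : (x : G × X).2 * E.g ^ m = 1 := by rw [← hw2, ← hxz]; rfl
      rw [eq_inv_of_mul_eq_one_right h]
      exact E.P.inv_mem (hUM _ hx').2.1
    have hgm' : gH ^ m = 1 := by
      rw [← orderOf_dvd_iff_zpow_eq_one]
      rw [show orderOf gH = orderOf E.g from F.ord.trans E.ord.symm, orderOf_dvd_iff_zpow_eq_one]
      exact hgm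
    rw [hgm', mul_one] at hxz
    subst hxz
    obtain ⟨ha1, hb1, hab⟩ := hUM _ hx'
    have hk1 : D.π ⟨_, ha1⟩ = 1 := by
      rw [hab, show (⟨(x : G × X).2, hb1⟩ : E.P) = 1 from Subtype.ext hw2, map_one]
    obtain ⟨hfix, hcomm⟩ := D.ker_prop ⟨_, ha1⟩ hk1
    refine Subgroup.mem_center_iff.2 fun y => ?_
    have hy : y ∈ centralizer ({(x : G × X).1} : Set G) := by
      have hle : D.P ⊔ zpowers D.g ≤ centralizer ({(x : G × X).1} : Set G) :=
        sup_le (fun z hz => mem_centralizer_singleton_iff.2 (congrArg Subtype.val (hcomm ⟨z, hz⟩)).symm)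
          (zpowers_le.2 (mem_centralizer_singleton_iff.2 (mul_inv_eq_iff_eq_mul.1 hfix)))
      exact hle (D.sup_eq.ge (mem_top y))
    exact mem_centralizer_singleton_iff.1 hy

theorem main (hpq : p ≠ q) (hr : 1 ≤ r) {a₀ : ℕ} (ha : a = orderOf (p : ZMod q))
    (ha₀ : a₀ = if a % 2 = 1 then a else 3 * a / 2) :
    ∃ (G₀ : Type u) (_ : Group G₀) (_ : Finite G₀),
      (¬ Cfsg.HasNormalPComplement p G₀ ∧ ∀ K : Subgroup G₀, K ≠ ⊤ → Cfsg.HasNormalPComplement p K) ∧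
      Nat.card G₀ = p ^ a₀ * q ^ r ∧
      ∀ (X : Type u) [Group X] [Finite X],
        (¬ Cfsg.HasNormalPComplement p X ∧ ∀ K : Subgroup X, K ≠ ⊤ → Cfsg.HasNormalPComplement p K) →
        (∃ t : ℕ, Nat.card X = p ^ t * q ^ r) →
        ∃ φ : G₀ →* X, Function.Surjective φ ∧ φ.ker ≤ center G₀ := by
  obtain ⟨ζ, h1, h2⟩ := exists_zeta hpq ha
  obtain ⟨G₀, i₁, i₂, D, hD⟩ := exists_dat.{u} (r := r) hpq hr ha h1 h2
  refine ⟨G₀, i₁, i₂, ⟨D.not_hasNormalPComplement hpq hr h2, D.minimal hpq hr ha h1 h2⟩, ?_, ?_⟩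
  · rw [D.card_eq hpq, hD, ha₀]
  · intro X _ _ hX ⟨t, ht⟩
    obtain ⟨E⟩ := exists_dat_of_minimal hpq hr ha h1 h2 hX.1 hX.2 ht
    exact exists_central_quotient hpq ha h1 h2 D E hD

end Cfsg.Lib.USchmidt
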